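import Groth.Agent.Lib.Lead.FPExt.Filt
import Groth.Prelude.Def_QCohCat

/-! # Finitely presented quasi-coherent modules on a qcqs scheme are the compact objects of
`QCoh(X)`. -/

universe u
open CategoryTheory Limits AlgebraicGeometry TopologicalSpace Opposite

namespace Groth.Agent.LD.FPExt
open Groth.Agent.LD

variable {X : Scheme.{u}}

/-- on a quasi-compact scheme a quasi-coherent module of finite type has a finite list of local
sections over affine opens such that a morphism hitting all of them is an epimorphism. -/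
theorem exists_generating_list [CompactSpace X] (F : X.Modules) [hFq : F.IsQuasicoherent]
    (hF : F.IsFiniteType) :
    ∃ l : List (Σ V : X.affineOpens, Γ(F, V.1)), ∀ (G : X.Modules) (φ : G ⟶ F),
      (∀ p ∈ l, ∃ g : Γ(G, p.1.1), φ.app p.1.1 g = p.2) → Epi φ := by
  classical
  obtain ⟨s, hs, e⟩ := isCompact_and_isOpen_iff_finite_and_eq_biUnion_affineOpens.mp
    ⟨(isCompact_univ : IsCompact (Set.univ : Set X)), isOpen_univ⟩
  have hgen : ∀ V : X.affineOpens, ∃ T : Finset Γ(F, V.1),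
      Submodule.span Γ(X, V.1) (T : Set Γ(F, V.1)) = ⊤ := by
    intro V
    haveI := QC.finite_sections_of_isFiniteType F hF V.2
    exact Module.Finite.fg_top
  choose T hT using hgen
  let l : List (Σ V : X.affineOpens, Γ(F, V.1)) :=
    hs.toFinset.toList.flatMap (fun V => (T V).toList.map (fun t => ⟨V, t⟩))
  refine ⟨l, fun G φ hl => ?_⟩
  apply QC.epi_of_local_lift
  intro U t x hxU
  have hx : x ∈ ⋃ i ∈ s, ((i : X.Opens) : Set X) := e ▸ Set.mem_univ x
  obtain ⟨V, hVs, hxV⟩ := Set.mem_iUnion₂.mp hx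
  obtain ⟨h, hhU, hxh⟩ := V.2.exists_basicOpen_le (V := U) ⟨x, hxU⟩ hxV
  have hDV : X.basicOpen h ≤ V.1 := X.basicOpen_le h
  refine ⟨X.basicOpen h, hhU, hxh, ?_⟩
  let Rg : Submodule Γ(X, X.basicOpen h) Γ(F, X.basicOpen h) :=
    LinearMap.range (QC.appLinear φ (X.basicOpen h))
  have h1 : ∀ t' ∈ T V, F.presheaf.map (homOfLE hDV).op t' ∈ Rg := by
    intro t' ht'
    have hmem : (⟨V, t'⟩ : Σ V : X.affineOpens, Γ(F, V.1)) ∈ l := by
      simp only [l, List.mem_flatMap, List.mem_map, Finset.mem_toList]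
      exact ⟨V, hs.mem_toFinset.mpr hVs, t', ht', rfl⟩
    obtain ⟨g, hg⟩ := hl _ hmem
    refine ⟨G.presheaf.map (homOfLE hDV).op g, ?_⟩
    rw [QC.appLinear_apply, QC.app_res, hg]
  letI := QC.resModule F hDV
  have h2 : ∀ m : Γ(F, V.1), F.presheaf.map (homOfLE hDV).op m ∈ Rg := by
    intro m
    have hm : m ∈ Submodule.span Γ(X, V.1) ((T V : Finset Γ(F, V.1)) : Set Γ(F, V.1)) := by
      rw [hT V]; trivial
    induction hm using Submodule.span_induction with
    | mem y hy => exact h1 y hy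
    | zero => rw [map_zero]; exact Rg.zero_mem
    | add a b _ _ ha hb => rw [map_add]; exact Rg.add_mem ha hb
    | smul r a _ ha =>
      have hsm : F.presheaf.map (homOfLE hDV).op (r • a) =
          (X.presheaf.map (homOfLE hDV).op r) • F.presheaf.map (homOfLE hDV).op a :=
        (QC.resLinear F hDV).map_smul r a
      rw [hsm]; exact Rg.smul_mem _ ha
  haveI := QC.isLocalizedModule_basicOpen F V.2 h
  obtain ⟨⟨m, c⟩, hmc⟩ := IsLocalizedModule.surj (Submonoid.powers h) (QC.resLinear F hDV)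
    (F.presheaf.map (homOfLE hhU).op t)
  have hu : IsUnit (X.presheaf.map (homOfLE hDV).op (c : Γ(X, V.1))) := by
    obtain ⟨n, hn⟩ := c.2
    rw [← hn, map_pow]
    exact (RingedSpace.isUnit_res_basicOpen _ h).pow n
  obtain ⟨v, hv⟩ := hu
  have h4 : (v : Γ(X, X.basicOpen h)) • F.presheaf.map (homOfLE hhU).op t =
      F.presheaf.map (homOfLE hDV).op m := by
    rw [hv]; exact hmc
  have h3 : F.presheaf.map (homOfLE hhU).op t =
      (↑v⁻¹ : Γ(X, X.basicOpen h)) • F.presheaf.map (homOfLE hDV).op m := by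
    rw [← h4, smul_smul]; simp
  have h5 : F.presheaf.map (homOfLE hhU).op t ∈ Rg := by
    rw [h3]; exact Rg.smul_mem _ (h2 m)
  obtain ⟨g, hg⟩ := h5
  exact ⟨g, hg⟩

/-- a retract of a finitely presented module is finitely presented. -/
theorem isFinitePresentation_of_retract {M N : X.Modules} [M.IsQuasicoherent]
    (hN : N.IsFinitePresentation) (s : M ⟶ N) (r : N ⟶ M) (h : s ≫ r = 𝟙 M) :
    M.IsFinitePresentation := by
  haveI : N.IsQuasicoherent := inferInstance
  rw [QC.isFinitePresentation_iff_sections]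
  intro O hO
  haveI := QC.finitePresentation_sections_of_isFinitePresentation N hN hO
  have hrs : ∀ x, QC.appLinear r O (QC.appLinear s O x) = x := fun x => by
    have := congrArg (fun φ : M ⟶ M => φ.app O x) h
    exact this
  have hsurj : Function.Surjective (QC.appLinear r O) := fun x => ⟨_, hrs x⟩
  refine Module.finitePresentation_of_surjective (QC.appLinear r O) hsurj ?_
  have hker : LinearMap.ker (QC.appLinear r O) =
      LinearMap.range (LinearMap.id - (QC.appLinear s O).comp (QC.appLinear r O)) := by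
    ext y
    constructor
    · intro hy
      rw [LinearMap.mem_ker] at hy
      refine ⟨y, ?_⟩
      simp only [LinearMap.sub_apply, LinearMap.id_apply, LinearMap.comp_apply, hy, map_zero,
        sub_zero]
    · rintro ⟨y', rfl⟩
      rw [LinearMap.mem_ker]
      simp only [LinearMap.sub_apply, LinearMap.id_apply, LinearMap.comp_apply, map_sub, hrs,
        sub_self]
  rw [hker, LinearMap.range_eq_map]
  exact (Module.Finite.fg_top).map _

section Sec
variable {I : Type u} [SmallCategory I] [IsFiltered I] {D : I ⥤ X.Modules} {c : Cocone D}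
  (hc : IsColimit c)
include hc

theorem sec_surj_of_isColimit {V : X.Opens} (hV : IsAffineOpen V) (y : Γ(c.pt, V)) :
    ∃ (j : I) (x : Γ(D.obj j, V)), (c.ι.app j).app V x = y := by
  have hc' := isColimitOfPreserves (SheafOfModules.toSheaf X.ringCatSheaf) hc
  obtain ⟨i, s, hs⟩ := Colim.top_sec_surj V hV.isCompact hV.isQuasiSeparated hc' y
  exact ⟨i, s, hs⟩

theorem sec_inj_of_isColimit {V : X.Opens} (hV : IsAffineOpen V) (i : I) (x : Γ(D.obj i, V))
    (hx : (c.ι.app i).app V x = 0) : ∃ (k : I) (a : i ⟶ k), (D.map a).app V x = 0 := by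
  have hc' := isColimitOfPreserves (SheafOfModules.toSheaf X.ringCatSheaf) hc
  obtain ⟨k, a, ha⟩ := Colim.sec_inj Colim.basis_qc hc' (U := V)
    ⟨hV.isCompact, hV.isQuasiSeparated⟩ i x hx
  exact ⟨k, a, ha⟩

theorem exists_kill_list (i : I) (l : List (Σ V : X.affineOpens, Γ(D.obj i, V.1)))
    (hl : ∀ p ∈ l, (c.ι.app i).app p.1.1 p.2 = 0) :
    ∃ (k : I) (a : i ⟶ k), ∀ p ∈ l, (D.map a).app p.1.1 p.2 = 0 := by
  induction l with
  | nil => exact ⟨i, 𝟙 i, fun p hp => absurd hp List.not_mem_nil⟩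
  | cons p l ih =>
    obtain ⟨k₁, a₁, h₁⟩ := ih (fun q hq => hl q (List.mem_cons_of_mem _ hq))
    have h2 : (c.ι.app k₁).app p.1.1 ((D.map a₁).app p.1.1 p.2) = 0 := by
      have e : (c.ι.app k₁).app p.1.1 ((D.map a₁).app p.1.1 p.2) =
          (D.map a₁ ≫ c.ι.app k₁).app p.1.1 p.2 := rfl
      rw [e, c.w a₁]
      exact hl p List.mem_cons_self
    obtain ⟨k₂, a₂, h₂⟩ := sec_inj_of_isColimit hc p.1.2 k₁ _ h2
    refine ⟨k₂, a₁ ≫ a₂, fun q hq => ?_⟩
    have e : (D.map (a₁ ≫ a₂)).app q.1.1 q.2 =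
        (D.map a₂).app q.1.1 ((D.map a₁).app q.1.1 q.2) := by
      rw [D.map_comp]; rfl
    rw [e]
    rcases List.mem_cons.mp hq with h | hq'
    · rw [h]; exact h₂
    · rw [h₁ q hq']
      exact (QC.appLinear (D.map a₂) q.1.1).map_zero

theorem exists_common_stage (l : List (Σ V : X.affineOpens, Γ(c.pt, V.1))) :
    ∃ (i : I), ∀ p ∈ l, ∃ x : Γ(D.obj i, p.1.1), (c.ι.app i).app p.1.1 x = p.2 := by
  induction l with
  | nil => exact ⟨(IsFiltered.nonempty : Nonempty I).some, fun p hp => absurd hp List.not_mem_nil⟩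
  | cons p l ih =>
    obtain ⟨i₁, h₁⟩ := ih
    obtain ⟨i₂, x₂, h₂⟩ := sec_surj_of_isColimit hc p.1.2 p.2
    refine ⟨IsFiltered.max i₁ i₂, fun q hq => ?_⟩
    rcases List.mem_cons.mp hq with h | hq'
    · rw [h]
      refine ⟨(D.map (IsFiltered.rightToMax i₁ i₂)).app _ x₂, ?_⟩
      have e : (c.ι.app (IsFiltered.max i₁ i₂)).app p.1.1
          ((D.map (IsFiltered.rightToMax i₁ i₂)).app p.1.1 x₂) =
          (D.map (IsFiltered.rightToMax i₁ i₂) ≫ c.ι.app (IsFiltered.max i₁ i₂)).app p.1.1 x₂ :=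
        rfl
      rw [e, c.w]; exact h₂
    · obtain ⟨x₁, hx₁⟩ := h₁ q hq'
      refine ⟨(D.map (IsFiltered.leftToMax i₁ i₂)).app _ x₁, ?_⟩
      have e : (c.ι.app (IsFiltered.max i₁ i₂)).app q.1.1
          ((D.map (IsFiltered.leftToMax i₁ i₂)).app q.1.1 x₁) =
          (D.map (IsFiltered.leftToMax i₁ i₂) ≫ c.ι.app (IsFiltered.max i₁ i₂)).app q.1.1 x₁ :=
        rfl
      rw [e, c.w]; exact hx₁

/-- a morphism from a finite type quasi-coherent module to a stage of a filtered system which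
vanishes in the colimit vanishes at a later stage. -/
theorem exists_comp_map_eq_zero [CompactSpace X] {G : X.Modules} [G.IsQuasicoherent]
    (hG : G.IsFiniteType) {i : I} (w : G ⟶ D.obj i) (hw : w ≫ c.ι.app i = 0) :
    ∃ (k : I) (a : i ⟶ k), w ≫ D.map a = 0 := by
  obtain ⟨l, hl⟩ := exists_generating_list G hG
  let l' : List (Σ V : X.affineOpens, Γ(D.obj i, V.1)) :=
    l.map (fun p => ⟨p.1, w.app p.1.1 p.2⟩)
  have hl' : ∀ p ∈ l', (c.ι.app i).app p.1.1 p.2 = 0 := by
    intro p hp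
    obtain ⟨q, hq, rfl⟩ := List.mem_map.mp hp
    show (c.ι.app i).app q.1.1 (w.app q.1.1 q.2) = 0
    have e : (c.ι.app i).app q.1.1 (w.app q.1.1 q.2) = (w ≫ c.ι.app i).app q.1.1 q.2 := rfl
    rw [e, hw]; rfl
  obtain ⟨k, a, hka⟩ := exists_kill_list hc i l' hl'
  refine ⟨k, a, ?_⟩
  haveI : Epi (kernel.ι (w ≫ D.map a)) := by
    apply hl
    intro p hp
    have h1 : (w ≫ D.map a).app p.1.1 p.2 = 0 :=
      hka ⟨p.1, w.app p.1.1 p.2⟩ (List.mem_map.mpr ⟨p, hp, rfl⟩)
    exact QC.exists_kernel_section (w ≫ D.map a) p.1.1 p.2 h1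
  exact (cancel_epi (kernel.ι (w ≫ D.map a))).1 (by rw [kernel.condition, comp_zero])

/-- a morphism from a finitely presented module to a filtered colimit of quasi-coherent modules
factors through a stage. -/
theorem exists_factor_of_fp [CompactSpace X] [QuasiSeparatedSpace X]
    (hDq : ∀ i, (D.obj i).IsQuasicoherent) (hcq : c.pt.IsQuasicoherent)
    {F : X.Modules} (hF : F.IsFinitePresentation) (f : F ⟶ c.pt) :
    ∃ (k : I) (fk : F ⟶ D.obj k), fk ≫ c.ι.app k = f := by
  classical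
  haveI hFq : F.IsQuasicoherent := inferInstance
  have hFft : F.IsFiniteType := inferInstance
  obtain ⟨l, hl⟩ := exists_generating_list F hFft
  let l' : List (Σ V : X.affineOpens, Γ(c.pt, V.1)) := l.map (fun p => ⟨p.1, f.app p.1.1 p.2⟩)
  obtain ⟨i, hi⟩ := exists_common_stage hc l'
  have hi' : ∀ p ∈ l, ∃ x : Γ(D.obj i, p.1.1), (c.ι.app i).app p.1.1 x = f.app p.1.1 p.2 :=
    fun p hp => hi ⟨p.1, f.app p.1.1 p.2⟩ (List.mem_map.mpr ⟨p, hp, rfl⟩)
  let δ : F ⊞ D.obj i ⟶ c.pt := biprod.desc f (-(c.ι.app i))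
  haveI hBq : (F ⊞ D.obj i).IsQuasicoherent := SC.qc_biprod _ _ hFq (hDq i)
  haveI hPq : (kernel δ).IsQuasicoherent := QC.qc_kernel δ hBq hcq
  have h1 : δ = biprod.fst ≫ f - biprod.snd ≫ c.ι.app i := by
    apply biprod.hom_ext' <;> simp [δ]
  have hδ : kernel.ι δ ≫ biprod.fst ≫ f = kernel.ι δ ≫ biprod.snd ≫ c.ι.app i := by
    have h0 : kernel.ι δ ≫ (biprod.fst ≫ f - biprod.snd ≫ c.ι.app i) = 0 := by
      rw [← h1]; exact kernel.condition δ
    rw [Preadditive.comp_sub, sub_eq_zero] at h0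
    exact h0
  have hsec : ∀ p ∈ l, ∃ z : Γ(kernel δ, p.1.1),
      (kernel.ι δ ≫ biprod.fst).app p.1.1 z = p.2 := by
    intro p hp
    obtain ⟨x, hx⟩ := hi' p hp
    have hz : δ.app p.1.1 (QC.bmk F (D.obj i) p.1.1 p.2 x) = 0 := by
      have e : δ.app p.1.1 (QC.bmk F (D.obj i) p.1.1 p.2 x) =
          (biprod.fst ≫ f - biprod.snd ≫ c.ι.app i).app p.1.1
            (QC.bmk F (D.obj i) p.1.1 p.2 x) := by rw [← h1]
      have e2 : (biprod.fst ≫ f - biprod.snd ≫ c.ι.app i).app p.1.1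
            (QC.bmk F (D.obj i) p.1.1 p.2 x) =
          ((biprod.fst ≫ f : F ⊞ D.obj i ⟶ c.pt)).app p.1.1 (QC.bmk F (D.obj i) p.1.1 p.2 x) -
          ((biprod.snd ≫ c.ι.app i : F ⊞ D.obj i ⟶ c.pt)).app p.1.1
            (QC.bmk F (D.obj i) p.1.1 p.2 x) := rfl
      rw [e, e2, sub_eq_zero]
      show f.app p.1.1 ((biprod.fst : F ⊞ D.obj i ⟶ F).app p.1.1
          (QC.bmk F (D.obj i) p.1.1 p.2 x)) =
        (c.ι.app i).app p.1.1 ((biprod.snd : F ⊞ D.obj i ⟶ D.obj i).app p.1.1
          (QC.bmk F (D.obj i) p.1.1 p.2 x))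
      rw [QC.bfst_bmk, QC.bsnd_bmk, hx]
    obtain ⟨z, hz'⟩ := QC.exists_kernel_section δ p.1.1 _ hz
    refine ⟨z, ?_⟩
    show (biprod.fst : F ⊞ D.obj i ⟶ F).app p.1.1 ((kernel.ι δ).app p.1.1 z) = p.2
    rw [hz', QC.bfst_bmk]
  choose! z hz using hsec
  obtain ⟨P', u, hu, hP'q, hP'ft, hP'⟩ := QC.exists_sub_finiteType_of_sections (kernel δ)
    l.toFinset (fun p => p.1) (fun p => z p)
  haveI := hP'q
  let π' : P' ⟶ F := u ≫ kernel.ι δ ≫ biprod.fst
  haveI hπ' : Epi π' := by
    apply hl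
    intro p hp
    obtain ⟨g, hg⟩ := hP' p (List.mem_toFinset.mpr hp)
    refine ⟨g, ?_⟩
    show (kernel.ι δ ≫ biprod.fst).app p.1.1 (u.app p.1.1 g) = p.2
    rw [hg]; exact hz p hp
  haveI hKq : (kernel π').IsQuasicoherent := QC.qc_kernel π' hP'q hFq
  have hKft : (kernel π').IsFiniteType := by
    rw [QC.isFiniteType_iff_finite_sections]
    intro O hO
    exact finite_sections_kernel hP'ft π' hO (fun x hx => fpAt_of_sections F hO
      (QC.finitePresentation_sections_of_isFinitePresentation F hF hO) hx)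
  let v : P' ⟶ D.obj i := u ≫ kernel.ι δ ≫ biprod.snd
  have hv : v ≫ c.ι.app i = π' ≫ f := by
    simp only [v, π', Category.assoc]
    rw [hδ]
  have hw : (kernel.ι π' ≫ v) ≫ c.ι.app i = 0 := by
    rw [Category.assoc, hv, ← Category.assoc, kernel.condition, zero_comp]
  obtain ⟨k, a, hka⟩ := exists_comp_map_eq_zero hc hKft (kernel.ι π' ≫ v) hw
  have hcok : IsColimit (CokernelCofork.ofπ π' (kernel.condition π')) :=
    Abelian.epiIsCokernelOfKernel _ (limit.isLimit (parallelPair π' 0))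
  have hka' : kernel.ι π' ≫ (v ≫ D.map a) = 0 := by rw [← Category.assoc]; exact hka
  obtain ⟨fk, hfk⟩ := CokernelCofork.IsColimit.desc' hcok (v ≫ D.map a) hka'
  have hfk' : π' ≫ fk = v ≫ D.map a := hfk
  refine ⟨k, fk, (cancel_epi π').1 ?_⟩
  rw [← Category.assoc, hfk', Category.assoc, c.w a, hv]

end Sec

/-- **the finitely presentable (compact) objects of `QCoh(X)`, `X` qcqs, are the finitely
presented modules.** -/
theorem isFinitelyPresentable_iff [CompactSpace X] [QuasiSeparatedSpace X]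
    (F : QCohCat.QCoh X) :
    IsFinitelyPresentable.{u} F ↔ SheafOfModules.IsFinitePresentation F.obj := by
  constructor
  · intro hF
    obtain ⟨Fo, hFo⟩ := F
    haveI : Fo.IsQuasicoherent := hFo
    obtain ⟨I, _, _, D, c, hc, hD, hpt⟩ := exists_filtered_colimit_fp Fo
    have hDq : ∀ i, QCohCat.isQCoh X (D.obj i) := fun i => by
      haveI := hD i
      exact (inferInstance : (D.obj i).IsQuasicoherent)
    subst hpt
    let D' : I ⥤ QCohCat.QCoh X := (QCohCat.isQCoh X).lift D hDq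
    let c' : Cocone D' :=
      { pt := ⟨c.pt, hFo⟩
        ι := { app := fun i => ObjectProperty.homMk (c.ι.app i)
               naturality := fun i j a => by
                 apply ObjectProperty.hom_ext
                 exact c.ι.naturality a } }
    have hc' : IsColimit c' :=
      { desc := fun s => ObjectProperty.homMk (hc.desc ((QCohCat.isQCoh X).ι.mapCocone s))
        fac := fun s i => by
          apply ObjectProperty.hom_ext
          exact hc.fac ((QCohCat.isQCoh X).ι.mapCocone s) i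
        uniq := fun s m hm => by
          apply ObjectProperty.hom_ext
          apply hc.uniq ((QCohCat.isQCoh X).ι.mapCocone s) m.hom
          intro i
          exact congrArg (fun φ => φ.hom) (hm i) }
    haveI := hF
    obtain ⟨j, p, hp⟩ := IsFinitelyPresentable.exists_hom_of_isColimit hc'
      (X := (⟨c.pt, hFo⟩ : QCohCat.QCoh X)) (𝟙 _)
    have hp' : p.hom ≫ c.ι.app j = 𝟙 c.pt := congrArg (fun φ => φ.hom) hp
    exact isFinitePresentation_of_retract (hD j) p.hom (c.ι.app j) hp'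
  · intro hF
    rw [isFinitelyPresentable_iff_preservesFilteredColimitsOfSize]
    refine ⟨fun J _ _ => ⟨fun {K} => ⟨fun {c} hc => ⟨?_⟩⟩⟩⟩
    haveI : CreatesColimit K (QCohCat.isQCoh X).ι :=
      createsColimitFullSubcategoryInclusion K
        (QC.qc_colimit (K ⋙ (QCohCat.isQCoh X).ι) (fun j => (K.obj j).property))
    have hc₀ : IsColimit ((QCohCat.isQCoh X).ι.mapCocone c) :=
      isColimitOfPreserves (QCohCat.isQCoh X).ι hc
    have hKq : ∀ j, ((K ⋙ (QCohCat.isQCoh X).ι).obj j).IsQuasicoherent :=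
      fun j => (K.obj j).property
    have hcq : ((QCohCat.isQCoh X).ι.mapCocone c).pt.IsQuasicoherent := c.pt.property
    haveI : F.obj.IsQuasicoherent := F.property
    have hFft : F.obj.IsFiniteType := by haveI := hF; infer_instance
    refine Types.FilteredColimit.isColimitOf' _ _ ?_ ?_
    · intro x
      obtain ⟨k, fk, hfk⟩ := exists_factor_of_fp hc₀ hKq hcq hF
        (x : F ⟶ c.pt).hom
      refine ⟨k, (ObjectProperty.homMk fk : F ⟶ K.obj k), ?_⟩
      apply ObjectProperty.hom_ext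
      exact hfk.symm
    · intro i x y hxy
      have hxy' : (x : F ⟶ K.obj i) ≫ c.ι.app i = (y : F ⟶ K.obj i) ≫ c.ι.app i := hxy
      have h0 : ((x : F ⟶ K.obj i).hom - (y : F ⟶ K.obj i).hom) ≫
          ((QCohCat.isQCoh X).ι.mapCocone c).ι.app i = 0 := by
        rw [Preadditive.sub_comp, sub_eq_zero]
        exact congrArg (fun φ => φ.hom) hxy'
      obtain ⟨k, a, hka⟩ := exists_comp_map_eq_zero hc₀ hFft _ h0
      refine ⟨k, a, ?_⟩
      rw [Preadditive.sub_comp, sub_eq_zero] at hka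
      apply ObjectProperty.hom_ext
      exact hka

end Groth.Agent.LD.FPExt
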