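import Groth.Agent.Lib.Lead.FPExt.Main
import Groth.Agent.Lib.Lead.QC.SubSup
import Groth.Agent.Lib.Lead.QC.EpiLocal
import Groth.Agent.Lib.Lead.QC.HomAffine
import Groth.Agent.Lib.Lead.QC.TensorPow

/-! # Finite type quasi-coherent modules as quotients of finitely presented ones
(Stacks 01PJ/01PK). -/

universe u
open CategoryTheory Limits AlgebraicGeometry TopologicalSpace Opposite

namespace Groth.Agent.LD.FPExt
open Groth.Agent.LD

variable {X : Scheme.{u}}

/-- exactness of sections over an affine open at the middle of `A → B → coker`. -/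
lemma exists_preimage_of_cokernel_π_eq_zero {A B : X.Modules} [hA : A.IsQuasicoherent]
    [hB : B.IsQuasicoherent] (w : A ⟶ B) {O : X.Opens} (hO : IsAffineOpen O) (s : Γ(B, O))
    (hs : (cokernel.π w).app O s = 0) : ∃ a : Γ(A, O), w.app O a = s := by
  have hC : (cokernel w).IsQuasicoherent := QC.qc_cokernel w hA hB
  have hI : (Abelian.image w).IsQuasicoherent := QC.qc_kernel _ hB hC
  obtain ⟨t, ht⟩ := QC.exists_kernel_section (cokernel.π w) O s hs
  obtain ⟨a, ha⟩ := QC.epi_app_affine hA hI (Abelian.factorThruImage w) hO t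
  refine ⟨a, ?_⟩
  have h1 : (Abelian.factorThruImage w ≫ Abelian.image.ι w).app O a = w.app O a := by
    rw [Abelian.image.fac]
  rw [← h1, QC.comp_app', ha]
  exact ht

/-- the cokernel of a map from a quasi-coherent module of finite type to a finitely presented
module is finitely presented. -/
theorem isFinitePresentation_cokernel {A B : X.Modules} [hA : A.IsQuasicoherent]
    (hAft : A.IsFiniteType) (hB : B.IsFinitePresentation) (w : A ⟶ B) :
    (cokernel w).IsFinitePresentation := by
  haveI hBq : B.IsQuasicoherent := inferInstance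
  haveI hC : (cokernel w).IsQuasicoherent := QC.qc_cokernel w hA hBq
  rw [QC.isFinitePresentation_iff_sections]
  intro O hO
  haveI : Module.FinitePresentation Γ(X, O) Γ(B, O) :=
    QC.finitePresentation_sections_of_isFinitePresentation B hB hO
  haveI : Module.Finite Γ(X, O) Γ(A, O) := QC.finite_sections_of_isFiniteType A hAft hO
  refine Module.finitePresentation_of_surjective (QC.appLinear (cokernel.π w) O)
    (QC.epi_app_affine hBq hC (cokernel.π w) hO) ?_
  have hker : LinearMap.ker (QC.appLinear (cokernel.π w) O) =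
      LinearMap.range (QC.appLinear w O) := by
    ext s
    constructor
    · intro hs
      obtain ⟨a, ha⟩ := exists_preimage_of_cokernel_π_eq_zero w hO s hs
      exact ⟨a, ha⟩
    · rintro ⟨a, rfl⟩
      show (cokernel.π w).app O (w.app O a) = 0
      rw [← QC.comp_app', cokernel.condition]
      rfl
  rw [hker]
  exact Submodule.fg_range _

/-- sections over an affine open of the kernel of an epimorphism from a finite type module onto a
module which is finitely presented there are finitely generated. -/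
theorem finite_sections_kernel {G F : X.Modules} [hG : G.IsQuasicoherent] [hF : F.IsQuasicoherent]
    (hGft : G.IsFiniteType) (π : G ⟶ F) [Epi π] {O : X.Opens} (hO : IsAffineOpen O)
    (hfp : ∀ x ∈ O, FPAt F x) : Module.Finite Γ(X, O) Γ(kernel π, O) := by
  haveI : Module.FinitePresentation Γ(X, O) Γ(F, O) := fp_sections_of_local F hO hfp
  haveI : Module.Finite Γ(X, O) Γ(G, O) := QC.finite_sections_of_isFiniteType G hGft hO
  have hfg : (LinearMap.ker (QC.appLinear π O)).FG :=
    Module.FinitePresentation.fg_ker (QC.appLinear π O) (QC.epi_app_affine hG hF π hO)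
  haveI : Module.Finite Γ(X, O) (LinearMap.ker (QC.appLinear π O)) := Module.Finite.iff_fg.mpr hfg
  have hinj : Function.Injective (QC.appLinear (kernel.ι π) O) := QC.mono_app _ O
  have hrange : LinearMap.range (QC.appLinear (kernel.ι π) O) =
      LinearMap.ker (QC.appLinear π O) := by
    ext s
    exact QC.mem_range_kernel_ι_iff π O s
  have e := LinearEquiv.ofInjective (QC.appLinear (kernel.ι π) O) hinj
  rw [hrange] at e
  exact Module.Finite.equiv e.symm

/-- the biproduct of two finitely presented modules is finitely presented. -/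
theorem isFinitePresentation_biprod (A B : X.Modules) (fA : A.IsFinitePresentation)
    (fB : B.IsFinitePresentation) : (A ⊞ B).IsFinitePresentation := by
  haveI hA : A.IsQuasicoherent := inferInstance
  haveI hB : B.IsQuasicoherent := inferInstance
  haveI : (A ⊞ B).IsQuasicoherent := SC.qc_biprod A B hA hB
  rw [QC.isFinitePresentation_iff_sections]
  intro U hU
  haveI := QC.finitePresentation_sections_of_isFinitePresentation A fA hU
  haveI := QC.finitePresentation_sections_of_isFinitePresentation B fB hU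
  let f : (Γ(A, U) × Γ(B, U)) →ₗ[Γ(X, U)] Γ(A ⊞ B, U) :=
    (QC.appLinear (biprod.inl : A ⟶ A ⊞ B) U).coprod (QC.appLinear (biprod.inr : B ⟶ A ⊞ B) U)
  have hf : ∀ a b, f (a, b) = QC.bmk A B U a b := fun a b => by
    simp only [f, LinearMap.coprod_apply]
    rfl
  have hbij : Function.Bijective f := by
    constructor
    · rw [injective_iff_map_eq_zero]
      rintro ⟨a, b⟩ hab
      rw [hf] at hab
      have h1 := QC.bfst_bmk A B U a b
      have h2 := QC.bsnd_bmk A B U a b
      rw [hab, map_zero] at h1 h2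
      rw [← h1, ← h2]
      rfl
    · intro t
      refine ⟨((biprod.fst : A ⊞ B ⟶ A).app U t, (biprod.snd : A ⊞ B ⟶ B).app U t), ?_⟩
      rw [hf]
      exact QC.bmk_eta A B U t
  exact Module.FinitePresentation.of_equiv (LinearEquiv.ofBijective f hbij)

/-- the structure sheaf is finitely presented. -/
theorem isFinitePresentation_unitMod (X : Scheme.{u}) : (QC.unitMod X).IsFinitePresentation := by
  haveI : (QC.unitMod X).IsQuasicoherent := QC.qc_of_isInvertible _ (QC.isInvertible_unit X)
  apply QC.isFinitePresentation_of_sections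
  intro x
  obtain ⟨U, hU, hxU, -⟩ := exists_isAffineOpen_mem_and_subset (x := x) (U := ⊤) trivial
  refine ⟨U, hU, hxU, ?_⟩
  show Module.FinitePresentation Γ(X, U) Γ(X, U)
  infer_instance

/-- a local section over an affine open is in the image of a map from a finitely presented
module. -/
lemma exists_fp_through_section [CompactSpace X] [QuasiSeparatedSpace X] (F : X.Modules)
    [F.IsQuasicoherent] {V : X.Opens} (hV : IsAffineOpen V) (s : Γ(F, V)) :
    ∃ (G : X.Modules) (φ : G ⟶ F), G.IsFinitePresentation ∧ ∃ g : Γ(G, V), φ.app V g = s := by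
  obtain ⟨G, φ, e, hG, he⟩ := exists_fp_extension F V hV.isCompact (QC.unitMod V)
    (isFinitePresentation_unitMod _) (QC.homOfSecOver F V s)
  refine ⟨G, φ, hG, ?_⟩
  let g₀ : Γ(G, V.ι ''ᵁ ⊤) := e.inv.app ⊤ (1 : Γ(V, ⊤))
  refine ⟨G.presheaf.map (homOfLE V.ι_image_top.ge).op g₀, ?_⟩
  rw [QC.app_res]
  have h1 : φ.app (V.ι ''ᵁ ⊤) g₀ = F.presheaf.map (homOfLE (V.ι_image_le ⊤)).op s := by
    have h2 : ((Scheme.Modules.restrictFunctor V.ι).map φ).app ⊤ g₀ =
        (e.hom ≫ QC.homOfSecOver F V s).app ⊤ g₀ := by rw [he]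
    have h3 : (e.hom ≫ QC.homOfSecOver F V s).app ⊤ g₀ =
        (QC.homOfSecOver F V s).app ⊤ ((e.inv ≫ e.hom).app ⊤ (1 : Γ(V, ⊤))) := rfl
    rw [e.inv_hom_id] at h3
    exact (h2.trans h3).trans (QC.homOfSecOver_app_one F V s ⊤)
  rw [h1, QC.res_res, QC.res_self]

/-- finitely many local sections over affine opens are in the image of a map from a finitely
presented module. -/
lemma exists_fp_through_sections [CompactSpace X] [QuasiSeparatedSpace X] (F : X.Modules)
    [F.IsQuasicoherent] (l : List (Σ V : X.affineOpens, Γ(F, V.1))) :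
    ∃ (G : X.Modules) (φ : G ⟶ F), G.IsFinitePresentation ∧
      ∀ p ∈ l, ∃ g : Γ(G, p.1.1), φ.app p.1.1 g = p.2 := by
  induction l with
  | nil =>
    obtain ⟨G, φ, hG, -⟩ := exists_fp_through_section F (isAffineOpen_bot X) (0 : Γ(F, ⊥))
    exact ⟨G, φ, hG, fun p hp => absurd hp (List.not_mem_nil)⟩
  | cons q l ih =>
    obtain ⟨G₁, φ₁, hG₁, g₁, hg₁⟩ := exists_fp_through_section F q.1.2 q.2
    obtain ⟨G₂, φ₂, hG₂, h₂⟩ := ih
    refine ⟨G₁ ⊞ G₂, biprod.desc φ₁ φ₂, isFinitePresentation_biprod G₁ G₂ hG₁ hG₂, ?_⟩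
    intro p hp
    rcases List.mem_cons.mp hp with rfl | hp
    · refine ⟨(biprod.inl : G₁ ⟶ G₁ ⊞ G₂).app _ g₁, ?_⟩
      rw [← QC.comp_app', biprod.inl_desc]
      exact hg₁
    · obtain ⟨g, hg⟩ := h₂ p hp
      refine ⟨(biprod.inr : G₂ ⟶ G₁ ⊞ G₂).app _ g, ?_⟩
      rw [← QC.comp_app', biprod.inr_desc]
      exact hg

/-- **a quasi-coherent module of finite type on a qcqs scheme is a quotient of a finitely
presented module.** -/
theorem exists_fp_epi [CompactSpace X] [QuasiSeparatedSpace X] (F : X.Modules)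
    [hFq : F.IsQuasicoherent] (hF : F.IsFiniteType) :
    ∃ (G : X.Modules) (π : G ⟶ F), G.IsFinitePresentation ∧ Epi π := by
  classical
  obtain ⟨s, hs, e⟩ := isCompact_and_isOpen_iff_finite_and_eq_biUnion_affineOpens.mp
    ⟨(isCompact_univ : IsCompact (Set.univ : Set X)), isOpen_univ⟩
  have hgen : ∀ V : X.affineOpens, ∃ T : Finset Γ(F, V.1),
      Submodule.span Γ(X, V.1) (T : Set Γ(F, V.1)) = ⊤ := by
    intro V
    haveI := QC.finite_sections_of_isFiniteType F hF V.2
    exact Module.Finite.fg_top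
  choose T hT using hgen
  let l : List (Σ V : X.affineOpens, Γ(F, V.1)) :=
    hs.toFinset.toList.flatMap (fun V => (T V).toList.map (fun t => ⟨V, t⟩))
  obtain ⟨G, φ, hG, hl⟩ := exists_fp_through_sections F l
  refine ⟨G, φ, hG, ?_⟩
  haveI hGq : G.IsQuasicoherent := inferInstance
  apply QC.epi_of_local_lift
  intro U t x hxU
  have hx : x ∈ ⋃ i ∈ s, ((i : X.Opens) : Set X) := e ▸ Set.mem_univ x
  obtain ⟨V, hVs, hxV⟩ := Set.mem_iUnion₂.mp hx
  obtain ⟨h, hhU, hxh⟩ := V.2.exists_basicOpen_le (V := U) ⟨x, hxU⟩ hxV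
  have hDV : X.basicOpen h ≤ V.1 := X.basicOpen_le h
  refine ⟨X.basicOpen h, hhU, hxh, ?_⟩
  let Rg : Submodule Γ(X, X.basicOpen h) Γ(F, X.basicOpen h) :=
    LinearMap.range (QC.appLinear φ (X.basicOpen h))
  have h1 : ∀ t' ∈ T V, F.presheaf.map (homOfLE hDV).op t' ∈ Rg := by
    intro t' ht'
    have hmem : (⟨V, t'⟩ : Σ V : X.affineOpens, Γ(F, V.1)) ∈ l := by
      simp only [l, List.mem_flatMap, List.mem_map, Finset.mem_toList]
      exact ⟨V, hs.mem_toFinset.mpr hVs, t', ht', rfl⟩
    obtain ⟨g, hg⟩ := hl _ hmem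
    refine ⟨G.presheaf.map (homOfLE hDV).op g, ?_⟩
    rw [QC.appLinear_apply, QC.app_res, hg]
  letI := QC.resModule F hDV
  have h2 : ∀ m : Γ(F, V.1), F.presheaf.map (homOfLE hDV).op m ∈ Rg := by
    intro m
    have hm : m ∈ Submodule.span Γ(X, V.1) ((T V : Finset Γ(F, V.1)) : Set Γ(F, V.1)) := by
      rw [hT V]; trivial
    induction hm using Submodule.span_induction with
    | mem y hy => exact h1 y hy
    | zero => rw [map_zero]; exact Rg.zero_mem
    | add a b _ _ ha hb => rw [map_add]; exact Rg.add_mem ha hb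
    | smul r a _ ha =>
      have hsm : F.presheaf.map (homOfLE hDV).op (r • a) =
          (X.presheaf.map (homOfLE hDV).op r) • F.presheaf.map (homOfLE hDV).op a :=
        (QC.resLinear F hDV).map_smul r a
      rw [hsm]; exact Rg.smul_mem _ ha
  haveI := QC.isLocalizedModule_basicOpen F V.2 h
  obtain ⟨⟨m, c⟩, hmc⟩ := IsLocalizedModule.surj (Submonoid.powers h) (QC.resLinear F hDV)
    (F.presheaf.map (homOfLE hhU).op t)
  have hu : IsUnit (X.presheaf.map (homOfLE hDV).op (c : Γ(X, V.1))) := by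
    obtain ⟨n, hn⟩ := c.2
    rw [← hn, map_pow]
    exact (RingedSpace.isUnit_res_basicOpen _ h).pow n
  obtain ⟨v, hv⟩ := hu
  have h4 : (v : Γ(X, X.basicOpen h)) • F.presheaf.map (homOfLE hhU).op t =
      F.presheaf.map (homOfLE hDV).op m := by
    rw [hv]; exact hmc
  have h3 : F.presheaf.map (homOfLE hhU).op t =
      (↑v⁻¹ : Γ(X, X.basicOpen h)) • F.presheaf.map (homOfLE hDV).op m := by
    rw [← h4, smul_smul]; simp
  have h5 : F.presheaf.map (homOfLE hhU).op t ∈ Rg := by
    rw [h3]; exact Rg.smul_mem _ (h2 m)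
  obtain ⟨g, hg⟩ := h5
  exact ⟨g, hg⟩

/-- **Stacks 01PK**: a finite type quasi-coherent module which is finitely presented over a
quasi-compact open `U` is a quotient of a finitely presented module by a surjection which is an
isomorphism over `U`. -/
theorem exists_fp_epi_iso_on_open [CompactSpace X] [QuasiSeparatedSpace X] (F : X.Modules)
    [hFq : F.IsQuasicoherent] (hF : F.IsFiniteType) (U : X.Opens) (hU : IsCompact (U : Set X))
    (hFU : (F.restrict U.ι).IsFinitePresentation) :
    ∃ (G : X.Modules) (φ : G ⟶ F), G.IsFinitePresentation ∧ Epi φ ∧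
      IsIso ((Scheme.Modules.restrictFunctor U.ι).map φ) := by
  obtain ⟨G₀, π, hG₀, hπ⟩ := exists_fp_epi F hF
  haveI := hπ
  haveI hG₀q : G₀.IsQuasicoherent := inferInstance
  have hG₀ft : G₀.IsFiniteType := inferInstance
  haveI hKq : (kernel π).IsQuasicoherent := QC.qc_kernel π hG₀q hFq
  have hfpU : ∀ x ∈ U, FPAt F x := fun x hx => fpAt_of_restrict_isFinitePresentation F U hFU hx
  have hfin : ∀ W : X.Opens, IsAffineOpen W → W ≤ U →
      Module.Finite Γ(X, W) Γ(kernel π, W) :=
    fun W hW hWU => finite_sections_kernel hG₀ft π hW (fun x hx => hfpU x (hWU hx))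
  obtain ⟨K', u, hu, hK'q, hK'ft, hbij⟩ := QC.exists_sub_finiteType (kernel π) U hU hfin
  haveI := hK'q
  let w : K' ⟶ G₀ := u ≫ kernel.ι π
  have hw : w ≫ π = 0 := by rw [Category.assoc, kernel.condition, comp_zero]
  let φ : cokernel w ⟶ F := cokernel.desc w π hw
  have hGfp : (cokernel w).IsFinitePresentation := isFinitePresentation_cokernel hK'ft hG₀ w
  haveI hCq : (cokernel w).IsQuasicoherent := inferInstance
  have hφ : cokernel.π w ≫ φ = π := cokernel.π_desc _ _ _
  haveI : Epi φ := epi_of_epi_fac hφ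
  refine ⟨cokernel w, φ, hGfp, inferInstance, ?_⟩
  apply QC.isIso_of_bijective_affine
  intro O''
  have hO : IsAffineOpen (U.ι ''ᵁ O''.1) := O''.2.image_of_isOpenImmersion U.ι
  have hOU : U.ι ''ᵁ O''.1 ≤ U := U.ι_image_le _
  show Function.Bijective (QC.appLinear φ (U.ι ''ᵁ O''.1))
  refine ⟨?_, QC.epi_app_affine hCq hFq φ hO⟩
  rw [injective_iff_map_eq_zero]
  intro c hc
  obtain ⟨b, rfl⟩ := QC.epi_app_affine hG₀q hCq (cokernel.π w) hO c
  have hb : π.app _ b = 0 := by
    rw [← hφ, QC.comp_app']; exact hc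
  obtain ⟨k, hk⟩ := QC.exists_kernel_section π _ b hb
  obtain ⟨k', hk'⟩ := (hbij _ hOU).2 k
  have hbw : b = w.app _ k' := by
    rw [QC.comp_app', hk', hk]
  rw [hbw, ← QC.comp_app', cokernel.condition]
  rfl

end Groth.Agent.LD.FPExt
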