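import Groth.Agent.Lib.Lead.FPExt.Alg
import Groth.Agent.Lib.Lead.QC.BiprodSec
import Groth.Agent.Lib.Lead.QC.InvBasis
import Groth.Agent.Lib.Lead.QC.SubExtRestrict
import Groth.Agent.Lib.Lead.QC.Pullback
import Groth.Agent.Lib.Lead.SC.Efface
import Groth.Agent.Lib.Lead.QCQS.RestrictOI

/-! # Modifying a quasi-coherent module over an affine open (gluing by a kernel), and
extension of finitely presented modules (Stacks 01PI). -/

universe u
open CategoryTheory Limits AlgebraicGeometry TopologicalSpace Opposite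

namespace Groth.Agent.LD.FPExt
open Groth.Agent.LD

variable {X Y : Scheme.{u}}

section Glue
variable (j : Y ⟶ X) [IsOpenImmersion j] (H : X.Modules) (T : Y.Modules) (θ : T ⟶ H.restrict j)

/-- `j_* T ⊞ H ⟶ j_* (H|_Y)`, `(t, h) ↦ θ t - h|_Y`. -/
noncomputable def glueD : (Scheme.Modules.pushforward j).obj T ⊞ H ⟶
    (Scheme.Modules.pushforward j).obj (H.restrict j) :=
  biprod.desc ((Scheme.Modules.pushforward j).map θ)
    (-(show H ⟶ (Scheme.Modules.pushforward j).obj (H.restrict j) from
      (Scheme.Modules.restrictAdjunction j).unit.app H))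

/-- the module obtained from `H` by replacing it over `Y` with `T` (along `θ`). -/
noncomputable def glue : X.Modules := kernel (glueD j H T θ)

noncomputable def glueSnd : glue j H T θ ⟶ H := kernel.ι _ ≫ biprod.snd

noncomputable def glueFst : glue j H T θ ⟶ (Scheme.Modules.pushforward j).obj T :=
  kernel.ι _ ≫ biprod.fst

lemma glueD_eq : glueD j H T θ = biprod.fst ≫ (Scheme.Modules.pushforward j).map θ +
    biprod.snd ≫ (-(show H ⟶ (Scheme.Modules.pushforward j).obj (H.restrict j) from
      (Scheme.Modules.restrictAdjunction j).unit.app H)) := biprod.desc_eq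

lemma glue_comm : glueFst j H T θ ≫ (Scheme.Modules.pushforward j).map θ =
    glueSnd j H T θ ≫ (show H ⟶ (Scheme.Modules.pushforward j).obj (H.restrict j) from
      (Scheme.Modules.restrictAdjunction j).unit.app H) := by
  have h := kernel.condition (glueD j H T θ)
  have h2 := (congrArg (fun d => kernel.ι (glueD j H T θ) ≫ d) (glueD_eq j H T θ)).symm.trans h
  dsimp only at h2
  rw [Preadditive.comp_add, Preadditive.comp_neg, Preadditive.comp_neg] at h2
  unfold glueFst glueSnd
  rw [Category.assoc, Category.assoc]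
  exact add_neg_eq_zero.mp h2

lemma glue_comm_app (O : X.Opens) (k : Γ(glue j H T θ, O)) :
    θ.app (j ⁻¹ᵁ O) ((glueFst j H T θ).app O k) =
      H.presheaf.map (homOfLE (j.image_preimage_le O)).op ((glueSnd j H T θ).app O k) := by
  have h := congrArg (fun φ => φ.app O k) (glue_comm j H T θ)
  exact h

lemma exists_glue_section (O : X.Opens) (t : Γ(T, j ⁻¹ᵁ O)) (h : Γ(H, O))
    (hth : θ.app (j ⁻¹ᵁ O) t = H.presheaf.map (homOfLE (j.image_preimage_le O)).op h) :
    ∃ k : Γ(glue j H T θ, O), (glueFst j H T θ).app O k = t ∧ (glueSnd j H T θ).app O k = h := by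
  let t' : Γ((Scheme.Modules.pushforward j).obj T, O) := t
  let e : Γ((Scheme.Modules.pushforward j).obj T ⊞ H, O) := QC.bmk _ _ O t' h
  have he : (glueD j H T θ).app O e = 0 := by
    rw [glueD_eq, QC.add_app', QC.comp_app', QC.comp_app', QC.bfst_bmk, QC.bsnd_bmk, QC.neg_app']
    exact add_neg_eq_zero.mpr hth
  obtain ⟨k, hk⟩ := QC.exists_kernel_section (glueD j H T θ) O e he
  refine ⟨k, ?_, ?_⟩
  · show (biprod.fst : (Scheme.Modules.pushforward j).obj T ⊞ H ⟶ _).app O
      ((kernel.ι (glueD j H T θ)).app O k) = t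
    rw [hk]; exact QC.bfst_bmk _ _ O t' h
  · show (biprod.snd : (Scheme.Modules.pushforward j).obj T ⊞ H ⟶ _).app O
      ((kernel.ι (glueD j H T θ)).app O k) = h
    rw [hk]; exact QC.bsnd_bmk _ _ O t' h

lemma glue_ext (O : X.Opens) (k k' : Γ(glue j H T θ, O))
    (h1 : (glueFst j H T θ).app O k = (glueFst j H T θ).app O k')
    (h2 : (glueSnd j H T θ).app O k = (glueSnd j H T θ).app O k') : k = k' := by
  apply QC.mono_app (kernel.ι (glueD j H T θ)) O
  exact QC.bext _ _ O h1 h2

/-- `glue → H` is bijective on sections over `O` as soon as `θ` is over `j⁻¹ O`. -/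
theorem glueSnd_bijective (O : X.Opens) (hθ : Function.Bijective (θ.app (j ⁻¹ᵁ O))) :
    Function.Bijective ((glueSnd j H T θ).app O) := by
  constructor
  · intro k k' hkk
    refine glue_ext j H T θ O k k' ?_ hkk
    apply hθ.1
    rw [glue_comm_app, glue_comm_app, hkk]
  · intro h
    obtain ⟨t, ht⟩ := hθ.2 (H.presheaf.map (homOfLE (j.image_preimage_le O)).op h)
    obtain ⟨k, -, hk⟩ := exists_glue_section j H T θ O t h ht
    exact ⟨k, hk⟩

/-- `glue → j_* T` is bijective on sections over opens inside the range of `j`. -/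
theorem glueFst_bijective (O : X.Opens) (hO : O ≤ j.opensRange) :
    Function.Bijective ((glueFst j H T θ).app O) := by
  have heq : j ''ᵁ (j ⁻¹ᵁ O) = O := by
    rw [Scheme.Hom.image_preimage_eq_opensRange_inf]; exact inf_eq_right.mpr hO
  have hres : Function.Bijective (H.presheaf.map (homOfLE (j.image_preimage_le O)).op) := by
    constructor
    · intro a b hab
      have := congrArg (H.presheaf.map (homOfLE heq.ge).op) hab
      rwa [QC.res_res, QC.res_res, QC.res_self, QC.res_self] at this
    · intro c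
      exact ⟨H.presheaf.map (homOfLE heq.ge).op c, by rw [QC.res_res, QC.res_self]⟩
  constructor
  · intro k k' hkk
    refine glue_ext j H T θ O k k' hkk ?_
    apply hres.1
    rw [← glue_comm_app, ← glue_comm_app, hkk]
  · intro t
    obtain ⟨h, hh⟩ := hres.2 (θ.app (j ⁻¹ᵁ O) t)
    obtain ⟨k, hk, -⟩ := exists_glue_section j H T θ O t h hh.symm
    exact ⟨k, hk⟩

theorem glue_qc [QuasiCompact j] (hH : H.IsQuasicoherent) (hT : T.IsQuasicoherent) :
    (glue j H T θ).IsQuasicoherent := by
  haveI := QC.qc_restrict j H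
  exact QC.qc_kernel _ (SC.qc_biprod _ _ (QC.qc_pushforward j T) hH)
    (QC.qc_pushforward j (H.restrict j))

/-- the restriction of `glue` to `Y` is `T`. -/
theorem nonempty_glue_restrict_iso : Nonempty ((glue j H T θ).restrict j ≅ T) := by
  haveI : IsIso ((Scheme.Modules.restrictFunctor j).map (glueFst j H T θ)) := by
    apply QC.isIso_of_bijective_app
    intro O'
    exact glueFst_bijective j H T θ (j ''ᵁ O') (by
      rintro _ ⟨y, -, rfl⟩
      exact ⟨y, rfl⟩)
  exact ⟨asIso ((Scheme.Modules.restrictFunctor j).map (glueFst j H T θ)) ≪≫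
    asIso ((Scheme.Modules.restrictAdjunction j).counit.app T)⟩

end Glue

/-- a morphism of quasi-coherent modules which is bijective on sections over an affine open `U` is
bijective over every open inside `U`. -/
theorem bijective_app_of_le_affine {M N : X.Modules} [M.IsQuasicoherent] [N.IsQuasicoherent]
    (φ : M ⟶ N) {U : X.Opens} (hU : IsAffineOpen U) (h : Function.Bijective (φ.app U)) :
    ∀ O : X.Opens, O ≤ U → Function.Bijective (φ.app O) := by
  have hb : ∀ g : Γ(X, U), Function.Bijective (φ.app (X.basicOpen g)) := by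
    intro g
    letI := QC.resModule M (X.basicOpen_le g)
    letI := QC.resModule N (X.basicOpen_le g)
    haveI := QC.isLocalizedModule_basicOpen M hU g
    haveI := QC.isLocalizedModule_basicOpen N hU g
    refine bijective_of_localized g (QC.resLinear M (X.basicOpen_le g))
      (QC.resLinear N (X.basicOpen_le g)) (QC.appLinear φ U)
      (QC.appLinear φ (X.basicOpen g)).toAddMonoidHom ?_ ?_ ?_ ?_
    · intro r x
      exact (QC.appLinear φ (X.basicOpen g)).map_smul
        ((X.presheaf.map (homOfLE (X.basicOpen_le g)).op).hom r) x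
    · intro m
      exact QC.app_res φ (X.basicOpen_le g) m
    · intro n
      obtain ⟨m, hm⟩ := h.2 n
      exact ⟨0, m, by rw [pow_zero, one_smul]; exact hm⟩
    · intro m hm
      exact ⟨0, by rw [pow_zero, one_smul]; exact h.1 (hm.trans (map_zero _).symm)⟩
  intro O hO
  have hiso : IsIso ((Scheme.Modules.restrictFunctor O.ι).map φ) := by
    apply QC.isIso_of_local_bijective
    intro y W' hy
    obtain ⟨g, hgW, hyg⟩ := hU.exists_basicOpen_le (V := O.ι ''ᵁ W') ⟨y.1, ⟨y, hy, rfl⟩⟩ (hO y.2)
    have hgO : X.basicOpen g ≤ O := hgW.trans (O.ι_image_le W')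
    have heq : O.ι ''ᵁ (O.ι ⁻¹ᵁ X.basicOpen g) = X.basicOpen g := by
      rw [Scheme.Hom.image_preimage_eq_opensRange_inf, Scheme.Opens.opensRange_ι]
      exact inf_eq_right.mpr hgO
    refine ⟨O.ι ⁻¹ᵁ X.basicOpen g, hyg, ?_, ?_⟩
    · intro z hz
      obtain ⟨w, hw, hwz⟩ := hgW hz
      have hwz' : w = z := O.ι.isOpenEmbedding.injective hwz
      exact hwz' ▸ hw
    · have key : Function.Bijective (φ.app (O.ι ''ᵁ (O.ι ⁻¹ᵁ X.basicOpen g))) := by
        rw [heq]; exact hb g
      exact key
  exact (QC.isIso_restrict_iff φ O).mp hiso O le_rfl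

/-- `tilde.map g` is bijective over `D(f)` when `g` is an isomorphism up to `f`-torsion. -/
theorem tilde_map_app_bijective {R : CommRingCat.{u}} {P Q : ModuleCat.{u} R} (g : P ⟶ Q) (f : R)
    (ha : ∀ n : Q, ∃ k : ℕ, ∃ p : P, g.hom p = f ^ k • n)
    (hb : ∀ p : P, g.hom p = 0 → ∃ k : ℕ, f ^ k • p = 0) :
    Function.Bijective ((tilde.map g).app (PrimeSpectrum.basicOpen f)) := by
  have hsq := tilde.toOpen_map_app g (PrimeSpectrum.basicOpen f)
  let φ' := ((modulesSpecToSheaf.map (tilde.map g)).1.app (op (PrimeSpectrum.basicOpen f))).hom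
  have key := bijective_of_localized f (tilde.toOpen P (PrimeSpectrum.basicOpen f)).hom
    (tilde.toOpen Q (PrimeSpectrum.basicOpen f)).hom g.hom φ'.toAddMonoidHom
    (fun r x => φ'.map_smul r x) (fun m => congr($hsq m)) ha hb
  exact key

lemma bijective_comp_app {M N P : X.Modules} (φ : M ⟶ N) (ψ : N ⟶ P) (O : X.Opens)
    (h1 : Function.Bijective (φ.app O)) (h2 : Function.Bijective (ψ.app O)) :
    Function.Bijective ((φ ≫ ψ).app O) := by
  constructor
  · intro a b hab
    rw [QC.comp_app', QC.comp_app'] at hab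
    exact h1.1 (h2.1 hab)
  · intro c
    obtain ⟨b, hb⟩ := h2.2 c
    obtain ⟨a, ha⟩ := h1.2 b
    exact ⟨a, by rw [QC.comp_app', ha, hb]⟩

/-- a linear map `g : P → Γ(M, ⊤)` into the global sections of a quasi-coherent module on `Spec R`
gives a morphism `tilde P ⟶ M`, which is an isomorphism over `D(f)` as soon as `g` is an
isomorphism up to `f`-torsion. -/
theorem exists_tildeHom {R : CommRingCat.{u}} (M : (Spec R).Modules) [M.IsQuasicoherent]
    (P : Type u) [AddCommGroup P] [Module R P] (g : P →ₗ[R] Γ(M, ⊤)) :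
    ∃ θ : tilde (ModuleCat.of R P) ⟶ M, ∀ f : R,
      (∀ n : Γ(M, ⊤), ∃ k : ℕ, ∃ p : P, g p = f ^ k • n) →
      (∀ p : P, g p = 0 → ∃ k : ℕ, f ^ k • p = 0) →
      ∀ O' : (Spec R).Opens, O' ≤ PrimeSpectrum.basicOpen f →
        Function.Bijective (θ.app O') := by
  haveI : IsIso M.fromTildeΓ := inferInstance
  let g' : ModuleCat.of R P ⟶ (modulesSpecToSheaf.obj M).presheaf.obj (.op ⊤) :=
    ModuleCat.ofHom (X := P) (Y := Γ(M, ⊤)) g
  refine ⟨tilde.map g' ≫ M.fromTildeΓ, fun f ha hb => ?_⟩
  have hf1 : Function.Bijective ((tilde.map g').app (PrimeSpectrum.basicOpen f)) :=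
    tilde_map_app_bijective g' f ha hb
  have hf2 := bijective_comp_app _ _ _ hf1
    (QC.app_bijective_of_isIso M.fromTildeΓ (PrimeSpectrum.basicOpen f))
  exact bijective_app_of_le_affine _ (QC.isAffineOpen_basicOpen_spec f) hf2

end Groth.Agent.LD.FPExt
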