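import Groth.Agent.Lib.Lead.FPExt.Quot

/-! # A finite type quasi-coherent module on a qcqs scheme is a directed colimit of finitely
presented modules with surjective transition maps. -/

universe u
open CategoryTheory Limits AlgebraicGeometry TopologicalSpace Opposite

namespace Groth.Agent.LD.FPExt
open Groth.Agent.LD

variable {X : Scheme.{u}}

/-- evaluation of morphisms at a section, as an additive map. -/
noncomputable def evalHom (M N : X.Modules) (O : X.Opens) (t : Γ(M, O)) : (M ⟶ N) →+ Γ(N, O) where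
  toFun φ := φ.app O t
  map_zero' := rfl
  map_add' _ _ := rfl

lemma biproduct_total' {C : Type*} [Category C] [Preadditive C] {J : Type*} [Fintype J]
    (f : J → C) [HasBiproduct f] : ∑ j : J, biproduct.π f j ≫ biproduct.ι f j = 𝟙 (⨁ f) := by
  classical
  apply biproduct.hom_ext
  intro j
  simp [Preadditive.sum_comp, biproduct.ι_π, comp_dite]

/-- a finite biproduct of quasi-coherent modules of finite type is quasi-coherent of finite
type. -/
theorem qc_ft_biproduct {ι : Type u} [Fintype ι] (E : ι → X.Modules) [HasBiproduct E]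
    (hq : ∀ i, (E i).IsQuasicoherent) (hft : ∀ i, (E i).IsFiniteType) :
    (⨁ E).IsQuasicoherent ∧ (⨁ E).IsFiniteType := by
  classical
  have h1 : (⨁ E).IsQuasicoherent := by
    refine QC.qc_of_iso (biproduct.isoCoproduct E).symm ?_
    exact QC.qc_colimit (Discrete.functor E) (fun j => hq j.as)
  refine ⟨h1, ?_⟩
  haveI := h1
  rw [QC.isFiniteType_iff_finite_sections]
  intro O hO
  haveI : ∀ j, Module.Finite Γ(X, O) Γ(E j, O) := fun j =>
    haveI := hq j
    QC.finite_sections_of_isFiniteType (E j) (hft j) hO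
  let Φ : (∀ j, Γ(E j, O)) →ₗ[Γ(X, O)] Γ(⨁ E, O) :=
    LinearMap.lsum _ _ ℕ (fun j => QC.appLinear (biproduct.ι E j) O)
  refine Module.Finite.of_surjective Φ ?_
  intro t
  refine ⟨fun j => (biproduct.π E j).app O t, ?_⟩
  have h2 := congrArg (evalHom (⨁ E) (⨁ E) O t) (biproduct_total' E)
  rw [map_sum] at h2
  simp only [Φ, LinearMap.lsum_apply, LinearMap.sum_apply, LinearMap.comp_apply,
    LinearMap.proj_apply]
  exact h2

/-- **Stacks 01PJ-type statement**: a quasi-coherent module of finite type on a qcqs scheme is a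
directed colimit of finitely presented modules with surjective transition maps. -/
theorem exists_directed_colimit_fp [CompactSpace X] [QuasiSeparatedSpace X] (F : X.Modules)
    [hFq : F.IsQuasicoherent] (hF : F.IsFiniteType) :
    ∃ (J : Type u) (_ : PartialOrder J) (_ : IsDirected J (· ≤ ·)) (_ : Nonempty J)
      (D : J ⥤ X.Modules) (ι : D ⟶ (Functor.const J).obj F),
      Nonempty (IsColimit (Cocone.mk F ι)) ∧ (∀ j, (D.obj j).IsFinitePresentation) ∧
        ∀ (j j' : J) (h : j ⟶ j'), Epi (D.map h) := by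
  classical
  obtain ⟨G₀, π, hG₀, hπ⟩ := exists_fp_epi F hF
  haveI := hπ
  haveI hG₀q : G₀.IsQuasicoherent := inferInstance
  haveI hKq : (kernel π).IsQuasicoherent := QC.qc_kernel π hG₀q hFq
  let Idx : Type u := Σ V : X.affineOpens, Γ(kernel π, V.1)
  have hch : ∀ p : Idx, ∃ (E : X.Modules) (i : E ⟶ kernel π), Mono i ∧ E.IsQuasicoherent ∧
      E.IsFiniteType ∧ ∃ g : Γ(E, p.1.1), i.app p.1.1 g = p.2 :=
    fun p => QC.exists_sub_finiteType_of_section (kernel π) p.1.2 p.2
  choose E i hi hEq hEft hEg using hch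
  haveI : HasFiniteBiproducts X.Modules := Abelian.hasFiniteBiproducts
  haveI : ∀ S : Finset Idx, HasBiproductsOfShape {p // p ∈ S} X.Modules :=
    fun S => hasBiproductsOfShape_finite _
  let A : Finset Idx → X.Modules := fun S => ⨁ (fun p : {p // p ∈ S} => E p.1)
  let d : ∀ S, A S ⟶ G₀ := fun S =>
    biproduct.desc (fun p : {p // p ∈ S} => i p.1 ≫ kernel.ι π)
  have hdπ : ∀ S, d S ≫ π = 0 := fun S => by
    apply biproduct.hom_ext'
    intro p
    rw [biproduct.ι_desc_assoc, Category.assoc, kernel.condition, comp_zero, comp_zero]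
  let tr : ∀ {S S' : Finset Idx}, S ≤ S' → (A S ⟶ A S') := fun {S S'} h =>
    biproduct.desc (fun p : {p // p ∈ S} =>
      biproduct.ι (fun q : {q // q ∈ S'} => E q.1) ⟨p.1, h p.2⟩)
  have htr : ∀ {S S' : Finset Idx} (h : S ≤ S'), tr h ≫ d S' = d S := by
    intro S S' h
    apply biproduct.hom_ext'
    intro p
    rw [biproduct.ι_desc_assoc, biproduct.ι_desc, biproduct.ι_desc]
  let D : Finset Idx ⥤ X.Modules :=
    { obj := fun S => cokernel (d S)
      map := fun {S S'} h => cokernel.desc (d S) (cokernel.π (d S')) (by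
        rw [← htr (leOfHom h), Category.assoc, cokernel.condition, comp_zero])
      map_id := fun S => (cancel_epi (cokernel.π (d S))).1 (by
        rw [cokernel.π_desc, Category.comp_id])
      map_comp := fun {S S' S''} f g => (cancel_epi (cokernel.π (d S))).1 (by
        rw [cokernel.π_desc, cokernel.π_desc_assoc, cokernel.π_desc]) }
  let lam : D ⟶ (Functor.const (Finset Idx)).obj F :=
    { app := fun S => cokernel.desc (d S) π (hdπ S)
      naturality := fun S S' h => (cancel_epi (cokernel.π (d S))).1 (by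
        show cokernel.π (d S) ≫ cokernel.desc (d S) (cokernel.π (d S')) _ ≫
          cokernel.desc (d S') π (hdπ S') = cokernel.π (d S) ≫ cokernel.desc (d S) π (hdπ S) ≫ 𝟙 F
        rw [cokernel.π_desc_assoc, cokernel.π_desc, cokernel.π_desc_assoc, Category.comp_id]) }
  have hlam : ∀ S, cokernel.π (d S) ≫ lam.app S = π := fun S => cokernel.π_desc _ _ _
  have hDmap : ∀ {S S' : Finset Idx} (h : S ⟶ S'),
      cokernel.π (d S) ≫ D.map h = cokernel.π (d S') := fun h => cokernel.π_desc _ _ _
  have hcok : IsColimit (CokernelCofork.ofπ π (kernel.condition π)) :=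
    Abelian.epiIsCokernelOfKernel _ (limit.isLimit (parallelPair π 0))
  refine ⟨Finset Idx, inferInstance, inferInstance, ⟨∅⟩, D, lam, ⟨?_⟩, ?_, ?_⟩
  · refine IsColimit.ofExistsUnique fun c => ?_
    let g : G₀ ⟶ c.pt := cokernel.π (d ∅) ≫ c.ι.app ∅
    have hkey : ∀ S, cokernel.π (d S) ≫ c.ι.app S = g := by
      intro S
      have hn := c.ι.naturality (homOfLE (Finset.empty_subset S))
      have hn' : D.map (homOfLE (Finset.empty_subset S)) ≫ c.ι.app S = c.ι.app ∅ := by
        rw [hn]; exact Category.comp_id _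
      rw [← hDmap (homOfLE (Finset.empty_subset S)), Category.assoc, hn']
    have hg : kernel.ι π ≫ g = 0 := by
      apply QC.hom_ext_affine
      intro O k
      let p : Idx := ⟨O, k⟩
      obtain ⟨e, he⟩ := hEg p
      have hmem : p ∈ ({p} : Finset Idx) := Finset.mem_singleton_self p
      have h1 : biproduct.ι (fun q : {q // q ∈ ({p} : Finset Idx)} => E q.1) ⟨p, hmem⟩ ≫ d {p} =
          i p ≫ kernel.ι π := biproduct.ι_desc _ _
      have h3 : i p ≫ kernel.ι π ≫ g = 0 := by
        rw [← Category.assoc, ← h1, ← hkey {p}, Category.assoc, cokernel.condition_assoc,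
          zero_comp, comp_zero]
      have h4 : (kernel.ι π ≫ g).app O.1 k = (i p ≫ kernel.ι π ≫ g).app O.1 e := by
        have he' : (i p).app O.1 e = k := he
        rw [← he']; rfl
      rw [h4, h3]
      rfl
    obtain ⟨ψ, hψ⟩ := CokernelCofork.IsColimit.desc' hcok g hg
    have hψ' : π ≫ ψ = g := hψ
    refine ⟨ψ, fun S => ?_, fun m hm => ?_⟩
    · refine (cancel_epi (cokernel.π (d S))).1 ?_
      show cokernel.π (d S) ≫ lam.app S ≫ ψ = cokernel.π (d S) ≫ c.ι.app S
      rw [← Category.assoc, hlam, hψ', hkey]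
    · refine (cancel_epi π).1 ?_
      rw [hψ', ← hlam ∅, Category.assoc]
      have := hm ∅
      show cokernel.π (d ∅) ≫ lam.app ∅ ≫ m = g
      rw [this]
  · intro S
    obtain ⟨hAq, hAft⟩ := qc_ft_biproduct (fun p : {p // p ∈ S} => E p.1) (fun p => hEq p.1)
      (fun p => hEft p.1)
    haveI := hAq
    exact isFinitePresentation_cokernel hAft hG₀ (d S)
  · intro S S' h
    haveI : Epi (cokernel.π (d S) ≫ D.map h) := by rw [hDmap h]; infer_instance
    exact epi_of_epi (cokernel.π (d S)) (D.map h)

end Groth.Agent.LD.FPExt
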