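import Groth.Agent.Lib.Lead.QC.SubExt

/-! # Finitely presented approximation of a module which is finitely presented after
localising at finitely many elements. -/

universe u
open Submodule

namespace Groth.Agent.LD.FPExt

/-- a map between localizations away from `f` induced by `φ` is bijective when `φ` is an
isomorphism up to `f`-power torsion. -/
lemma bijective_of_localized {R M N M' N' : Type*} [CommRing R] [AddCommGroup M] [Module R M]
    [AddCommGroup N] [Module R N] [AddCommGroup M'] [Module R M'] [AddCommGroup N'] [Module R N']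
    (f : R) (lM : M →ₗ[R] M') [IsLocalizedModule.Away f lM]
    (lN : N →ₗ[R] N') [IsLocalizedModule.Away f lN]
    (φ : M →ₗ[R] N) (φ' : M' →+ N') (hlin : ∀ (r : R) (x : M'), φ' (r • x) = r • φ' x)
    (hsq : ∀ m, φ' (lM m) = lN (φ m))
    (ha : ∀ n : N, ∃ k : ℕ, ∃ m : M, φ m = f ^ k • n)
    (hb : ∀ m : M, φ m = 0 → ∃ k : ℕ, f ^ k • m = 0) : Function.Bijective φ' := by
  let p := Submonoid.powers f
  have hMinj : ∀ (c : p) (x y : M'), c • x = c • y → x = y := fun c x y h =>
    ((Module.End.isUnit_iff _).mp (IsLocalizedModule.map_units lM c)).1 h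
  have hNinj : ∀ (c : p) (x y : N'), c • x = c • y → x = y := fun c x y h =>
    ((Module.End.isUnit_iff _).mp (IsLocalizedModule.map_units lN c)).1 h
  have hMsurj : ∀ (c : p) (y : M'), ∃ x : M', c • x = y := fun c y =>
    ((Module.End.isUnit_iff _).mp (IsLocalizedModule.map_units lM c)).2 y
  have hlin' : ∀ (c : p) (x : M'), φ' (c • x) = c • φ' x := fun c x => hlin (c : R) x
  constructor
  · rw [injective_iff_map_eq_zero]
    intro x hx
    obtain ⟨⟨m, s⟩, hms⟩ := IsLocalizedModule.surj p lM x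
    have hms' : s • x = lM m := hms
    have h1 : lN (φ m) = 0 := by
      rw [← hsq, ← hms', hlin', hx, smul_zero]
    obtain ⟨c, hc⟩ := (IsLocalizedModule.eq_zero_iff p lN).mp h1
    have h2 : φ ((c : R) • m) = 0 := by rw [map_smul]; exact hc
    obtain ⟨k, hk⟩ := hb _ h2
    have h3 : lM m = 0 := by
      rw [IsLocalizedModule.eq_zero_iff p lM]
      refine ⟨⟨f ^ k * (c : R), p.mul_mem ⟨k, rfl⟩ c.2⟩, ?_⟩
      rw [Submonoid.mk_smul, mul_smul]; exact hk
    apply hMinj s x 0
    rw [smul_zero, hms', h3]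
  · intro y
    obtain ⟨⟨n, s⟩, hns⟩ := IsLocalizedModule.surj p lN y
    have hns' : s • y = lN n := hns
    obtain ⟨k, m, hm⟩ := ha n
    let c : p := ⟨f ^ k * (s : R), p.mul_mem ⟨k, rfl⟩ s.2⟩
    obtain ⟨x, hx⟩ := hMsurj c (lM m)
    refine ⟨x, hNinj c _ _ ?_⟩
    rw [← hlin', hx, hsq, hm, map_smul, ← hns']
    change f ^ k • ((s : R) • y) = (f ^ k * (s : R)) • y
    rw [mul_smul]

/-- the kernel of a map `π : F → N`, surjective up to `f`-torsion, is finitely generated up to
`f`-torsion as soon as `N_f` is finitely presented. -/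
lemma exists_finset_ker {A A' F F' N N' : Type*} [CommRing A] [CommRing A'] [Algebra A A']
    [AddCommGroup F] [Module A F] [AddCommGroup F'] [Module A F'] [Module A' F']
    [IsScalarTower A A' F']
    [AddCommGroup N] [Module A N] [AddCommGroup N'] [Module A N'] [Module A' N']
    [IsScalarTower A A' N']
    (f : A) [IsLocalization.Away f A'] (lam : F →ₗ[A] F') [IsLocalizedModule.Away f lam]
    (l : N →ₗ[A] N') [IsLocalizedModule.Away f l]
    (π : F →ₗ[A] N) [Module.Finite A' F'] [Module.FinitePresentation A' N']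
    (hsurj : ∀ n : N, ∃ k : ℕ, ∃ v : F, π v = f ^ k • n) :
    ∃ T : Finset F, (∀ v ∈ T, π v = 0) ∧
      ∀ v : F, π v = 0 → ∃ k : ℕ, f ^ k • v ∈ Submodule.span A (T : Set F) := by
  classical
  let p := Submonoid.powers f
  let π' : F' →ₗ[A'] N' := (IsLocalizedModule.map p lam l π).extendScalarsOfIsLocalization p A'
  have hπ' : ∀ v, π' (lam v) = l (π v) := fun v => IsLocalizedModule.map_apply p lam l π v
  have hsurj' : Function.Surjective π' := by
    intro n'
    obtain ⟨⟨n, s⟩, hns⟩ := IsLocalizedModule.surj p l n'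
    have hns' : (s : A) • n' = l n := hns
    obtain ⟨k, v, hv⟩ := hsurj n
    have hmem : f ^ k * (s : A) ∈ p := p.mul_mem ⟨k, rfl⟩ s.2
    have hu : IsUnit (algebraMap A A' (f ^ k * (s : A))) :=
      IsLocalization.map_units A' (⟨_, hmem⟩ : p)
    obtain ⟨w, hw⟩ := hu
    refine ⟨(↑w⁻¹ : A') • lam v, ?_⟩
    rw [map_smul, hπ', hv, map_smul, ← hns']
    have h1 : f ^ k • ((s : A) • n') = (w : A') • n' := by
      rw [hw, algebraMap_smul, mul_smul]
    rw [h1, smul_smul]
    simp
  have hfg : (LinearMap.ker π').FG := Module.FinitePresentation.fg_ker π' hsurj'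
  have hker : (LinearMap.ker π).localized' A' p lam = LinearMap.ker π' :=
    LinearMap.localized'_ker_eq_ker_localizedMap A' p lam l π
  haveI : Module.Finite A' ((LinearMap.ker π).localized' A' p lam) := by
    rw [hker]; exact Module.Finite.iff_fg.mpr hfg
  obtain ⟨T, hT⟩ := QC.exists_finset_pow_smul_mem (R' := A') f
    ((LinearMap.ker π).toLocalized' A' p lam)
  refine ⟨T.image Subtype.val, ?_, ?_⟩
  · intro v hv
    obtain ⟨w, -, rfl⟩ := Finset.mem_image.mp hv
    exact w.2
  · intro v hv
    obtain ⟨k, hk⟩ := hT ⟨v, hv⟩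
    refine ⟨k, ?_⟩
    have h2 := Submodule.mem_map_of_mem (f := (LinearMap.ker π).subtype) hk
    rw [Submodule.map_span] at h2
    have h3 : ((LinearMap.ker π).subtype '' (T : Set (LinearMap.ker π))) =
        ((T.image Subtype.val : Finset F) : Set F) := by
      rw [Finset.coe_image]; rfl
    rw [h3] at h2
    exact h2

/-- `N_f` is a finitely presented `A_f`-module. -/
def FPAway (A : Type u) [CommRing A] (N : Type u) [AddCommGroup N] [Module A N] (f : A) : Prop :=
  ∃ (A' N' : Type u) (_ : CommRing A') (_ : Algebra A A') (_ : AddCommGroup N') (_ : Module A N')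
    (_ : Module A' N') (_ : IsScalarTower A A' N') (_ : IsLocalization.Away f A')
    (l : N →ₗ[A] N'), IsLocalizedModule.Away f l ∧ Module.FinitePresentation A' N'

/-- **finitely presented approximation**: if `N_f` is finitely presented over `A_f` for finitely
many `f`, there is a finitely presented `A`-module `P` with a map to `N` which becomes an
isomorphism after inverting any of these `f`. -/
theorem exists_fp_approx {A : Type u} [CommRing A] {N : Type u} [AddCommGroup N] [Module A N]
    (t : Finset A) (h : ∀ f ∈ t, FPAway A N f) :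
    ∃ (P : Type u) (_ : AddCommGroup P) (_ : Module A P) (_ : Module.FinitePresentation A P)
      (g : P →ₗ[A] N), ∀ f ∈ t, (∀ n : N, ∃ k : ℕ, ∃ p : P, g p = f ^ k • n) ∧
        (∀ p : P, g p = 0 → ∃ k : ℕ, f ^ k • p = 0) := by
  classical
  have hT : ∀ f : A, ∃ T : Finset N, f ∈ t → ∀ n : N, ∃ k : ℕ,
      f ^ k • n ∈ span A (T : Set N) := by
    intro f
    by_cases hf : f ∈ t
    · obtain ⟨A', N', _, _, _, _, _, _, _, l, hl, hfp⟩ := h f hf
      obtain ⟨T, hT⟩ := QC.exists_finset_pow_smul_mem (R' := A') f l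
      exact ⟨T, fun _ => hT⟩
    · exact ⟨∅, fun h => absurd h hf⟩
  choose T hT using hT
  let T₀ : Finset N := t.biUnion T
  let ι := {n : N // n ∈ T₀}
  let F := ι → A
  let π : F →ₗ[A] N := Fintype.linearCombination A (fun i : ι => (i : N))
  have hrange : LinearMap.range π = span A (T₀ : Set N) := by
    rw [Fintype.range_linearCombination]
    congr 1
    exact Subtype.range_coe
  have hπa : ∀ f ∈ t, ∀ n : N, ∃ k : ℕ, ∃ v : F, π v = f ^ k • n := by
    intro f hf n
    obtain ⟨k, hk⟩ := hT f hf n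
    have h1 : f ^ k • n ∈ LinearMap.range π := by
      rw [hrange]
      refine span_mono ?_ hk
      intro y hy
      exact Finset.mem_biUnion.mpr ⟨f, hf, hy⟩
    obtain ⟨v, hv⟩ := h1
    exact ⟨k, v, hv⟩
  have hS : ∀ f : A, ∃ S : Finset F, (∀ v ∈ S, π v = 0) ∧
      (f ∈ t → ∀ v : F, π v = 0 → ∃ k : ℕ, f ^ k • v ∈ span A (S : Set F)) := by
    intro f
    by_cases hf : f ∈ t
    · obtain ⟨A', N', _, _, _, _, _, _, _, l, hl, hfp⟩ := h f hf
      let lam : F →ₗ[A] (ι → A') :=
        LinearMap.pi fun i => (Algebra.linearMap A A') ∘ₗ LinearMap.proj i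
      haveI : IsLocalizedModule.Away f lam :=
        IsLocalizedModule.pi (Submonoid.powers f) (fun _ : ι => Algebra.linearMap A A')
      obtain ⟨S, hS1, hS2⟩ := exists_finset_ker (A' := A') f lam l π (hπa f hf)
      exact ⟨S, hS1, fun _ => hS2⟩
    · exact ⟨∅, by simp, fun h => absurd h hf⟩
  choose S hS1 hS2 using hS
  let K' : Submodule A F := span A ((t.biUnion S : Finset F) : Set F)
  have hK' : K' ≤ LinearMap.ker π := by
    rw [span_le]
    intro v hv
    obtain ⟨f, _, hvf⟩ := Finset.mem_biUnion.mp hv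
    exact hS1 f v hvf
  refine ⟨F ⧸ K', inferInstance, inferInstance, ?_, K'.liftQ π hK', fun f hf => ⟨?_, ?_⟩⟩
  · exact Module.finitePresentation_of_surjective K'.mkQ K'.mkQ_surjective
      (by rw [ker_mkQ]; exact ⟨_, rfl⟩)
  · intro n
    obtain ⟨k, v, hv⟩ := hπa f hf n
    exact ⟨k, K'.mkQ v, by rw [mkQ_apply, liftQ_apply]; exact hv⟩
  · intro p hp
    obtain ⟨v, rfl⟩ := K'.mkQ_surjective p
    rw [mkQ_apply, liftQ_apply] at hp
    obtain ⟨k, hk⟩ := hS2 f hf v hp
    refine ⟨k, ?_⟩
    rw [← map_smul, mkQ_apply, Quotient.mk_eq_zero]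
    refine span_mono ?_ hk
    intro y hy
    exact Finset.mem_biUnion.mpr ⟨f, hf, hy⟩

end Groth.Agent.LD.FPExt
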