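import Groth.Agent.Lib.Lead.FPExt.FiltA

universe u
open CategoryTheory Limits AlgebraicGeometry TopologicalSpace Opposite

namespace Groth.Agent.LD.FPExt
open Groth.Agent.LD

variable {X : Scheme.{u}}

/-- **Stacks 01PG-type statement**: a quasi-coherent module on a qcqs scheme is a filtered
colimit of finitely presented modules. -/
theorem exists_filtered_colimit_fp [CompactSpace X] [QuasiSeparatedSpace X] (F : X.Modules)
    [hFq : F.IsQuasicoherent] :
    ∃ (I : Type u) (_ : SmallCategory I) (_ : IsFiltered I) (D : I ⥤ X.Modules)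
      (c : Cocone D) (_ : IsColimit c), (∀ i, (D.obj i).IsFinitePresentation) ∧ c.pt = F := by
  classical
  let Gen : Type u := Σ V : X.affineOpens, Γ(F, V.1)
  have hch : ∀ p : Gen, ∃ (G : X.Modules) (φ : G ⟶ F), G.IsFinitePresentation ∧
      ∃ g : Γ(G, p.1.1), φ.app p.1.1 g = p.2 := fun p => exists_fp_through_section F p.1.2 p.2
  choose G φ hGfp g hg using hch
  haveI : HasFiniteBiproducts X.Modules := Abelian.hasFiniteBiproducts
  haveI : ∀ T : Finset Gen, HasBiproductsOfShape {p // p ∈ T} X.Modules :=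
    fun T => hasBiproductsOfShape_finite _
  let GT : Finset Gen → X.Modules := fun T => ⨁ (fun p : {p // p ∈ T} => G p.1)
  let φT : ∀ T, GT T ⟶ F := fun T => biproduct.desc (fun p : {p // p ∈ T} => φ p.1)
  let inc : ∀ {T T' : Finset Gen}, T ⊆ T' → (GT T ⟶ GT T') := fun {T T'} h =>
    biproduct.desc (fun p : {p // p ∈ T} =>
      biproduct.ι (fun q : {q // q ∈ T'} => G q.1) ⟨p.1, h p.2⟩)
  have hincφ : ∀ {T T' : Finset Gen} (h : T ⊆ T'), inc h ≫ φT T' = φT T := by
    intro T T' h
    apply biproduct.hom_ext'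
    intro p
    rw [biproduct.ι_desc_assoc, biproduct.ι_desc, biproduct.ι_desc]
  have hincid : ∀ (T : Finset Gen) (h : T ⊆ T), inc h = 𝟙 (GT T) := by
    intro T h
    apply biproduct.hom_ext'
    intro p
    exact (biproduct.ι_desc _ _).trans (Category.comp_id _).symm
  have hinccomp : ∀ {T T' T'' : Finset Gen} (h : T ⊆ T') (h' : T' ⊆ T''),
      inc h ≫ inc h' = inc (h.trans h') := by
    intro T T' T'' h h'
    apply biproduct.hom_ext'
    intro p
    rw [biproduct.ι_desc_assoc, biproduct.ι_desc, biproduct.ι_desc]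
  have hGTfp : ∀ T, (GT T).IsFinitePresentation := fun T =>
    fp_biproduct (fun p : {p // p ∈ T} => G p.1) (fun p => hGfp p.1)
  haveI hGTq : ∀ T, (GT T).IsQuasicoherent := fun T => by haveI := hGTfp T; infer_instance
  haveI hKq : ∀ T, (kernel (φT T)).IsQuasicoherent := fun T =>
    QC.qc_kernel (φT T) (hGTq T) hFq
  let Rel : Type u := Σ (T : Finset Gen) (V : X.affineOpens), Γ(kernel (φT T), V.1)
  have hchR : ∀ r : Rel, ∃ (E : X.Modules) (i : E ⟶ kernel (φT r.1)), Mono i ∧
      E.IsQuasicoherent ∧ E.IsFiniteType ∧ ∃ e : Γ(E, r.2.1.1), i.app r.2.1.1 e = r.2.2 :=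
    fun r => QC.exists_sub_finiteType_of_section (kernel (φT r.1)) r.2.1.2 r.2.2
  choose E i hi hEq hEft e he using hchR
  haveI : ∀ S : Finset Rel, HasBiproductsOfShape {r // r ∈ S} X.Modules :=
    fun S => hasBiproductsOfShape_finite _
  let Tg : Finset Rel → Finset Gen := fun j => j.biUnion (fun r => r.1)
  have hsub : ∀ {j : Finset Rel} {r : Rel}, r ∈ j → r.1 ⊆ Tg j := fun {j r} hr =>
    Finset.subset_biUnion_of_mem (fun r : Rel => r.1) hr
  have hTg : ∀ {j j' : Finset Rel}, j ⊆ j' → Tg j ⊆ Tg j' := fun {j j'} h =>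
    Finset.biUnion_subset_biUnion_of_subset_left _ h
  let A : Finset Rel → X.Modules := fun j => ⨁ (fun r : {r // r ∈ j} => E r.1)
  let d : ∀ j, A j ⟶ GT (Tg j) := fun j =>
    biproduct.desc (fun r : {r // r ∈ j} => i r.1 ≫ kernel.ι (φT r.1.1) ≫ inc (hsub r.2))
  have hdφ : ∀ j, d j ≫ φT (Tg j) = 0 := fun j => by
    apply biproduct.hom_ext'
    intro r
    rw [biproduct.ι_desc_assoc, Category.assoc, Category.assoc, hincφ, kernel.condition,
      comp_zero, comp_zero]
  have hdinc : ∀ {j j' : Finset Rel} (h : j ⊆ j'),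
      d j ≫ inc (hTg h) ≫ cokernel.π (d j') = 0 := by
    intro j j' h
    apply biproduct.hom_ext'
    intro r
    have h1 : biproduct.ι (fun r : {r // r ∈ j'} => E r.1) ⟨r.1, h r.2⟩ ≫ d j' =
        i r.1 ≫ kernel.ι (φT r.1.1) ≫ inc (hsub (h r.2)) := biproduct.ι_desc _ _
    calc biproduct.ι (fun r : {r // r ∈ j} => E r.1) r ≫ d j ≫ inc (hTg h) ≫ cokernel.π (d j')
        = (i r.1 ≫ kernel.ι (φT r.1.1) ≫ inc (hsub r.2)) ≫ inc (hTg h) ≫ cokernel.π (d j') :=
          biproduct.ι_desc_assoc _ _ _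
      _ = i r.1 ≫ kernel.ι (φT r.1.1) ≫ (inc (hsub r.2) ≫ inc (hTg h)) ≫
            cokernel.π (d j') := by
          simp only [Category.assoc]
      _ = i r.1 ≫ kernel.ι (φT r.1.1) ≫ inc (hsub (h r.2)) ≫ cokernel.π (d j') := by
          rw [hinccomp]
      _ = (biproduct.ι (fun r : {r // r ∈ j'} => E r.1) ⟨r.1, h r.2⟩ ≫ d j') ≫
            cokernel.π (d j') := by
          rw [h1]; simp only [Category.assoc]
      _ = 0 := by rw [Category.assoc, cokernel.condition, comp_zero]
      _ = biproduct.ι (fun r : {r // r ∈ j} => E r.1) r ≫ 0 := comp_zero.symm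
  have hAqft : ∀ j, (A j).IsQuasicoherent ∧ (A j).IsFiniteType := fun j =>
    qc_ft_biproduct (fun r : {r // r ∈ j} => E r.1) (fun r => hEq r.1) (fun r => hEft r.1)
  obtain ⟨D, π', lam, hπ'epi, hdπ', hDmap, hlam, hDfp⟩ : ∃ (D : Finset Rel ⥤ X.Modules)
      (π' : ∀ j, GT (Tg j) ⟶ D.obj j) (lam : D ⟶ (Functor.const (Finset Rel)).obj F),
      (∀ j, Epi (π' j)) ∧ (∀ j, d j ≫ π' j = 0) ∧
      (∀ {j j' : Finset Rel} (h : j ⟶ j'), π' j ≫ D.map h = inc (hTg (leOfHom h)) ≫ π' j') ∧
      (∀ j, π' j ≫ lam.app j = φT (Tg j)) ∧ ∀ j, (D.obj j).IsFinitePresentation := by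
    let D : Finset Rel ⥤ X.Modules :=
      { obj := fun j => cokernel (d j)
        map := fun {j j'} h => cokernel.desc (d j) (inc (hTg (leOfHom h)) ≫ cokernel.π (d j'))
          (hdinc (leOfHom h))
        map_id := fun j => (cancel_epi (cokernel.π (d j))).1 (by
          rw [cokernel.π_desc, Category.comp_id, hincid, Category.id_comp])
        map_comp := fun {j j' j''} f g => (cancel_epi (cokernel.π (d j))).1 (by
          simp only [cokernel.π_desc, cokernel.π_desc_assoc, Category.assoc]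
          rw [← Category.assoc, hinccomp]) }
    let lam : D ⟶ (Functor.const (Finset Rel)).obj F :=
      { app := fun j => cokernel.desc (d j) (φT (Tg j)) (hdφ j)
        naturality := fun j j' h => (cancel_epi (cokernel.π (d j))).1 (by
          show cokernel.π (d j) ≫ cokernel.desc (d j) (inc (hTg (leOfHom h)) ≫
            cokernel.π (d j')) (hdinc (leOfHom h)) ≫ cokernel.desc (d j') (φT (Tg j')) (hdφ j') =
            cokernel.π (d j) ≫ cokernel.desc (d j) (φT (Tg j)) (hdφ j) ≫ 𝟙 F
          simp only [cokernel.π_desc, cokernel.π_desc_assoc, Category.assoc, Category.comp_id]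
          exact hincφ _) }
    refine ⟨D, fun j => cokernel.π (d j), lam, fun j => inferInstance,
      fun j => cokernel.condition _, fun h => cokernel.π_desc _ _ _,
      fun j => cokernel.π_desc _ _ _, fun j => ?_⟩
    haveI := (hAqft j).1
    exact isFinitePresentation_cokernel (hAqft j).2 (hGTfp (Tg j)) (d j)
  haveI := hπ'epi
  let c : Cocone D := Cocone.mk F lam
  let θ : colimit D ⟶ F := colimit.desc D c
  have hθι : ∀ j, colimit.ι D j ≫ θ = lam.app j := fun j => colimit.ι_desc c j
  have hDq : ∀ j, (D.obj j).IsQuasicoherent := fun j => by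
    haveI := hDfp j; infer_instance
  -- `θ` is an epimorphism
  have hepi : Epi θ := by
    apply QC.epi_of_local_lift
    intro U t x hx
    obtain ⟨W, hW, hxW, hWU⟩ := exists_isAffineOpen_mem_and_subset (x := x) (U := U) hx
    let p : Gen := ⟨⟨W, hW⟩, F.presheaf.map (homOfLE hWU).op t⟩
    let r₀ : Rel := ⟨{p}, ⟨W, hW⟩, 0⟩
    let j : Finset Rel := {r₀}
    have hmem : p ∈ Tg j :=
      Finset.mem_biUnion.mpr ⟨r₀, Finset.mem_singleton_self _, Finset.mem_singleton_self _⟩
    have h1 : biproduct.ι (fun q : {q // q ∈ Tg j} => G q.1) ⟨p, hmem⟩ ≫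
        π' j ≫ colimit.ι D j ≫ θ = φ p := by
      rw [hθι, hlam]
      exact biproduct.ι_desc _ _
    refine ⟨W, hWU, hxW, (biproduct.ι (fun q : {q // q ∈ Tg j} => G q.1) ⟨p, hmem⟩ ≫
        π' j ≫ colimit.ι D j).app W (g p), ?_⟩
    have h2 : θ.app W ((biproduct.ι (fun q : {q // q ∈ Tg j} => G q.1) ⟨p, hmem⟩ ≫
        π' j ≫ colimit.ι D j).app W (g p)) = (φ p).app W (g p) := by
      rw [← h1]; rfl
    rw [h2]
    exact hg p
  -- `θ` is a monomorphism
  have hmono : Mono θ := by
    apply QC.mono_of_injective_app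
    apply QC.app_injective_of_local
    intro x W hxW
    obtain ⟨V, hV, hxV, hVW⟩ := exists_isAffineOpen_mem_and_subset (x := x) (U := W) hxW
    refine ⟨V, hxV, hVW, ?_⟩
    have hinj : Function.Injective (QC.appLinear θ V) := by
      rw [injective_iff_map_eq_zero]
      intro y hy
      have hy' : θ.app V y = 0 := hy
      obtain ⟨j, x0, hx0⟩ := sec_colimit_surj D hV y
      obtain ⟨xt, hxt⟩ := QC.epi_app_affine (hGTq (Tg j)) (hDq j) (π' j) hV x0
      have h1 : (φT (Tg j)).app V xt = 0 := by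
        have e1 : φT (Tg j) = π' j ≫ colimit.ι D j ≫ θ := by
          rw [hθι, hlam]
        have e2 : (π' j ≫ colimit.ι D j ≫ θ).app V xt =
            θ.app V ((colimit.ι D j).app V ((π' j).app V xt)) := rfl
        rw [e1, e2, hxt, hx0]
        exact hy'
      obtain ⟨k, hk⟩ := QC.exists_kernel_section (φT (Tg j)) V xt h1
      let r : Rel := ⟨Tg j, ⟨V, hV⟩, k⟩
      let j' : Finset Rel := insert r j
      have hjj' : j ⊆ j' := Finset.subset_insert _ _
      have hr : r ∈ j' := Finset.mem_insert_self _ _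
      have h2 : biproduct.ι (fun r : {r // r ∈ j'} => E r.1) ⟨r, hr⟩ ≫ d j' =
          i r ≫ kernel.ι (φT (Tg j)) ≫ inc (hTg hjj') := biproduct.ι_desc _ _
      have h4 : (inc (hTg hjj')).app V xt =
          (biproduct.ι (fun r : {r // r ∈ j'} => E r.1) ⟨r, hr⟩ ≫ d j').app V (e r) := by
        rw [h2]
        have h5 : (i r ≫ kernel.ι (φT (Tg j)) ≫ inc (hTg hjj')).app V (e r) =
            (inc (hTg hjj')).app V ((kernel.ι (φT (Tg j))).app V ((i r).app V (e r))) := rfl
        have h6 : (i r).app V (e r) = k := he r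
        rw [h5, h6, hk]
      have h7 : (inc (hTg hjj') ≫ π' j').app V xt = 0 := by
        have h8 : (inc (hTg hjj') ≫ π' j').app V xt =
            (π' j').app V ((inc (hTg hjj')).app V xt) := rfl
        have h9 : (π' j').app V
            ((biproduct.ι (fun r : {r // r ∈ j'} => E r.1) ⟨r, hr⟩ ≫ d j').app V (e r)) =
            (biproduct.ι (fun r : {r // r ∈ j'} => E r.1) ⟨r, hr⟩ ≫ d j' ≫
              π' j').app V (e r) := rfl
        rw [h8, h4, h9, hdπ', comp_zero]
        rfl
      have h10 : (D.map (homOfLE hjj')).app V x0 = 0 := by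
        have h11 : (D.map (homOfLE hjj')).app V ((π' j).app V xt) =
            (π' j ≫ D.map (homOfLE hjj')).app V xt := rfl
        rw [← hxt, h11, hDmap]
        exact h7
      have h12 : y = (colimit.ι D j').app V ((D.map (homOfLE hjj')).app V x0) := by
        rw [← hx0, ← colimit.w D (homOfLE hjj')]
        rfl
      rw [h12, h10]
      exact (QC.appLinear (colimit.ι D j') V).map_zero
    exact hinj
  haveI hiso : IsIso θ := isIso_of_mono_of_epi θ
  haveI : IsIso ((colimit.isColimit D).desc c) := hiso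
  exact ⟨Finset Rel, inferInstance, inferInstance, D, c,
    IsColimit.ofPointIso (colimit.isColimit D), hDfp, rfl⟩

end Groth.Agent.LD.FPExt
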