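import Groth.Agent.Lib.Lead.FPExt.Colim
import Groth.Agent.Lib.Lead.Colim.Top
import Groth.Agent.Lib.Helper3.ModSiteAux

/-! # A quasi-coherent module on a qcqs scheme is a filtered colimit of finitely presented
modules. -/

universe u
open CategoryTheory Limits AlgebraicGeometry TopologicalSpace Opposite

namespace Groth.Agent.LD.FPExt
open Groth.Agent.LD

variable {X : Scheme.{u}}

/-- sections over an affine open of a filtered colimit of modules come from a stage. -/
theorem sec_colimit_surj {I : Type u} [SmallCategory I] [IsFiltered I]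
    (D : I ⥤ X.Modules) {V : X.Opens} (hV : IsAffineOpen V) (y : Γ(colimit D, V)) :
    ∃ (j : I) (x : Γ(D.obj j, V)), (colimit.ι D j).app V x = y := by
  have hc := isColimitOfPreserves (SheafOfModules.toSheaf X.ringCatSheaf) (colimit.isColimit D)
  obtain ⟨i, s, hs⟩ := Colim.top_sec_surj V hV.isCompact hV.isQuasiSeparated hc y
  exact ⟨i, s, hs⟩

/-- a finite biproduct of finitely presented modules is finitely presented. -/
theorem fp_biproduct {ι : Type u} [Fintype ι] (E : ι → X.Modules) [HasBiproduct E]
    (hfp : ∀ i, (E i).IsFinitePresentation) : (⨁ E).IsFinitePresentation := by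
  classical
  haveI hq : ∀ i, (E i).IsQuasicoherent := fun i => by haveI := hfp i; infer_instance
  haveI h1 : (⨁ E).IsQuasicoherent := by
    refine QC.qc_of_iso (biproduct.isoCoproduct E).symm ?_
    exact QC.qc_colimit (Discrete.functor E) (fun j => hq j.as)
  rw [QC.isFinitePresentation_iff_sections]
  intro O hO
  haveI : ∀ j, Module.FinitePresentation Γ(X, O) Γ(E j, O) := fun j =>
    QC.finitePresentation_sections_of_isFinitePresentation (E j) (hfp j) hO
  let Φ : (∀ j, Γ(E j, O)) →ₗ[Γ(X, O)] Γ(⨁ E, O) :=
    LinearMap.lsum _ _ ℕ (fun j => QC.appLinear (biproduct.ι E j) O)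
  have hΦ : ∀ x, Φ x = ∑ j, QC.appLinear (biproduct.ι E j) O (x j) := by
    intro x
    simp only [Φ, LinearMap.lsum_apply, LinearMap.sum_apply, LinearMap.comp_apply,
      LinearMap.proj_apply]
  have hsurj : Function.Surjective Φ := by
    intro t
    refine ⟨fun j => (biproduct.π E j).app O t, ?_⟩
    have h2 := congrArg (evalHom (⨁ E) (⨁ E) O t) (biproduct_total' E)
    rw [map_sum] at h2
    rw [hΦ]
    exact h2
  have hinj : Function.Injective Φ := by
    rw [injective_iff_map_eq_zero]
    intro x hx
    funext k
    have h3 := congrArg (QC.appLinear (biproduct.π E k) O) hx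
    rw [hΦ, map_sum, map_zero, Finset.sum_eq_single k] at h3
    · have h4 : QC.appLinear (biproduct.π E k) O (QC.appLinear (biproduct.ι E k) O (x k)) =
          (biproduct.ι E k ≫ biproduct.π E k).app O (x k) := rfl
      rw [h4, biproduct.ι_π_self] at h3
      exact h3
    · intro j _ hjk
      have h4 : QC.appLinear (biproduct.π E k) O (QC.appLinear (biproduct.ι E j) O (x j)) =
          (biproduct.ι E j ≫ biproduct.π E k).app O (x j) := rfl
      rw [h4, biproduct.ι_π_ne _ hjk]
      rfl
    · intro h
      exact absurd (Finset.mem_univ k) h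
  exact Module.finitePresentation_of_surjective Φ hsurj (by
    rw [LinearMap.ker_eq_bot.mpr hinj]; exact Submodule.fg_bot)


end Groth.Agent.LD.FPExt
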