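import Groth.Agent.Lib.Lead.FPExt.Glue

/-! # Extension of finitely presented modules on a quasi-compact quasi-separated scheme
(Stacks 01PI). -/

universe u
open CategoryTheory Limits AlgebraicGeometry TopologicalSpace Opposite

namespace Groth.Agent.LD.FPExt
open Groth.Agent.LD

variable {X Y : Scheme.{u}}

/-- `M` is finitely presented near `x`. -/
def FPAt (M : X.Modules) (x : X) : Prop :=
  ∃ U : X.Opens, x ∈ U ∧ ∃ P : (M.restrict U.ι).Presentation, P.IsFinite

theorem isFinitePresentation_of_fpAt (M : X.Modules) (h : ∀ x, FPAt M x) :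
    M.IsFinitePresentation :=
  (QC.isFinitePresentation_iff_forall_exists M).mpr h

theorem fp_sections_of_local (M : X.Modules) [hM : M.IsQuasicoherent] {U : X.Opens}
    (hU : IsAffineOpen U) (h : ∀ x ∈ U, FPAt M x) :
    Module.FinitePresentation Γ(X, U) Γ(M, U) := by
  let t : Set Γ(X, U) :=
    {f | ∃ P : (M.restrict (X.basicOpen f).ι).Presentation, P.IsFinite}
  have ht : Ideal.span t = ⊤ := by
    rw [← hU.self_le_iSup_basicOpen_iff]
    intro x hx
    obtain ⟨W, hxW, P, hP⟩ := h x hx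
    obtain ⟨f, hfW, hxf⟩ := hU.exists_basicOpen_le ⟨x, hxW⟩ hx
    have hr : Set.range (X.basicOpen f).ι ⊆ Set.range W.ι := by
      rw [Scheme.Opens.range_ι, Scheme.Opens.range_ι]; exact hfW
    have hft : f ∈ t :=
      ⟨QC.presOfLE M W.ι (X.basicOpen f).ι hr P, QC.presOfLE_isFinite _ _ _ _ _⟩
    exact Opens.mem_iSup.mpr ⟨⟨f, hft⟩, hxf⟩
  refine QC.finitePresentation_of_span_basicOpen M hU t ht fun g => ?_
  obtain ⟨P, hP⟩ := g.2
  exact QC.finitePresentation_of_presentation_affine M hM (hU.basicOpen g.1) P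

lemma fpAt_of_sections (M : X.Modules) [M.IsQuasicoherent] {O : X.Opens} (hO : IsAffineOpen O)
    (h : Module.FinitePresentation Γ(X, O) Γ(M, O)) {x : X} (hx : x ∈ O) : FPAt M x := by
  obtain ⟨P, hP⟩ := QC.exists_presentation_of_finitePresentation_affine M hO h
  exact ⟨O, hx, P, hP⟩

lemma fpAt_of_bijective {H H' : X.Modules} [H.IsQuasicoherent] [H'.IsQuasicoherent]
    (p : H' ⟶ H) (W : X.Opens)
    (hp : ∀ O : X.Opens, O ≤ W → Function.Bijective (p.app O)) {x : X} (hx : x ∈ W)
    (h : FPAt H x) : FPAt H' x := by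
  obtain ⟨U, hxU, P, hP⟩ := h
  obtain ⟨O, hO, hxO, hOle⟩ :=
    exists_isAffineOpen_mem_and_subset (x := x) (U := U ⊓ W) ⟨hxU, hx⟩
  have h1 : Module.FinitePresentation Γ(X, O) Γ(H, O) :=
    fp_sections_of_local H hO (fun y hy => ⟨U, (hOle hy).1, P, hP⟩)
  have hOW : O ≤ W := fun y hy => (hOle hy).2
  have h2 : Module.FinitePresentation Γ(X, O) Γ(H', O) := by
    haveI := h1
    exact Module.FinitePresentation.of_equiv
      (LinearEquiv.ofBijective (QC.appLinear p O) (hp O hOW)).symm
  exact fpAt_of_sections H' hO h2 hxO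

lemma fpAt_of_restrict_isFinitePresentation (M : X.Modules) (U : X.Opens)
    (h : (M.restrict U.ι).IsFinitePresentation) {x : X} (hx : x ∈ U) : FPAt M x := by
  obtain ⟨W', hxW', P, hP⟩ :=
    (QC.isFinitePresentation_iff_forall_exists (M.restrict U.ι)).mp h ⟨x, hx⟩
  haveI := hP
  let O : X.Opens := U.ι ''ᵁ W'
  have hOU : Set.range O.ι ⊆ Set.range U.ι := by
    rw [Scheme.Opens.range_ι, Scheme.Opens.range_ι]; exact U.ι_image_le W'
  let l := IsOpenImmersion.lift U.ι O.ι hOU
  have hl : Set.range l ⊆ Set.range W'.ι := by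
    rw [Scheme.Opens.range_ι]
    rintro _ ⟨z, rfl⟩
    have h1 : U.ι (l z) = O.ι z := by
      rw [← Scheme.Hom.comp_apply, IsOpenImmersion.lift_fac]
    obtain ⟨w, hw, hwz⟩ : O.ι z ∈ U.ι ''ᵁ W' := z.2
    have h2 : w = l z := U.ι.isOpenEmbedding.injective (hwz.trans h1.symm)
    exact h2 ▸ hw
  let P₁ := QC.presOfLE (M.restrict U.ι) W'.ι l hl P
  haveI hP₁ : P₁.IsFinite := QC.presOfLE_isFinite _ _ _ _ _
  let P₂ : (M.restrict O.ι).Presentation :=
    SheafOfModules.Presentation.ofIsIso.{u, u, u} (QC.restrictLiftIso M U.ι O.ι hOU).hom P₁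
  have hP₂ : P₂.IsFinite :=
    { isFiniteType_generators := ⟨hP₁.isFiniteType_generators.finite⟩
      isFiniteType_relations := ⟨hP₁.isFiniteType_relations.finite⟩ }
  exact ⟨O, ⟨⟨x, hx⟩, hxW', rfl⟩, P₂, hP₂⟩

/-- **affine step**: make `H` finitely presented over one more affine open `V`, without changing
it over the quasi-compact open `W` where it already is. -/
theorem exists_affine_step [QuasiSeparatedSpace X] (H : X.Modules) [hH : H.IsQuasicoherent]
    (W : X.Opens) (hW : IsCompact (W : Set X)) {V : X.Opens} (hV : IsAffineOpen V)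
    (hfp : ∀ x ∈ W, FPAt H x) :
    ∃ (H' : X.Modules) (p : H' ⟶ H), H'.IsQuasicoherent ∧
      (∀ O : X.Opens, O ≤ W → Function.Bijective (p.app O)) ∧ ∀ x ∈ W ⊔ V, FPAt H' x := by
  classical
  have hOV : IsCompact ((W ⊓ V : X.Opens) : Set X) :=
    QuasiSeparatedSpace.inter_isCompact W.1 V.1 W.2 hW V.2 hV.isCompact
  obtain ⟨t, htW, htc⟩ := QC.exists_finset_basicOpen_cover hV W hOV
  have h3 : ∀ f ∈ t, FPAway Γ(X, V) Γ(H, V) f := by
    intro f hf
    have hsec : Module.FinitePresentation Γ(X, X.basicOpen f) Γ(H, X.basicOpen f) :=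
      fp_sections_of_local H (hV.basicOpen f) (fun x hx => hfp x (htW f hf hx))
    exact ⟨Γ(X, X.basicOpen f), Γ(H, X.basicOpen f), inferInstance,
      QC.resAlgebra (X.basicOpen_le f), inferInstance, QC.resModule H (X.basicOpen_le f),
      inferInstance, QC.resModule_isScalarTower H (X.basicOpen_le f),
      hV.isLocalization_basicOpen f, QC.resLinear H (X.basicOpen_le f),
      QC.isLocalizedModule_basicOpen H hV f, hsec⟩
  obtain ⟨P, _, _, hP, g, hg⟩ := exists_fp_approx t h3
  let j := hV.fromSpec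
  let M : (Spec Γ(X, V)).Modules := H.restrict j
  let L := QC.affineΓEquiv H hV
  let Pm : ModuleCat.{u} Γ(X, V) := ModuleCat.of _ P
  let g'l : P →ₗ[Γ(X, V)] Γ(M, ⊤) := L.symm.toLinearMap ∘ₗ g
  have hg' : ∀ p : P, g'l p = L.symm (g p) := fun p => rfl
  obtain ⟨θ, hθ0⟩ := exists_tildeHom M P g'l
  let T : (Spec Γ(X, V)).Modules := tilde Pm
  have hθ : ∀ f ∈ t, ∀ O' : (Spec Γ(X, V)).Opens, O' ≤ PrimeSpectrum.basicOpen f →
      Function.Bijective (θ.app O') := by
    intro f hf
    apply hθ0 f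
    · intro n'
      obtain ⟨k, p, hp⟩ := (hg f hf).1 (L n')
      refine ⟨k, p, ?_⟩
      rw [hg', hp, map_smul, L.symm_apply_apply]
    · intro p hp
      have hp' : L.symm (g p) = 0 := (hg' p).symm.trans hp
      have hgp : g p = 0 := by
        have := congrArg L hp'
        rwa [L.apply_symm_apply, map_zero] at this
      exact (hg f hf).2 p hgp
  have hθW : ∀ O' : (Spec Γ(X, V)).Opens, O' ≤ j ⁻¹ᵁ W → Function.Bijective (θ.app O') := by
    apply QC.bijective_app_of_local θ (j ⁻¹ᵁ W)
    intro y hy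
    have hyV : j y ∈ V := by
      have : j y ∈ j.opensRange := ⟨y, rfl⟩
      rwa [hV.opensRange_fromSpec] at this
    obtain ⟨f, hf, hyf⟩ := htc (j y) ⟨hy, hyV⟩
    refine ⟨PrimeSpectrum.basicOpen f, ?_, hθ f hf⟩
    rw [← hV.fromSpec_preimage_basicOpen]
    exact hyf
  have hTq : T.IsQuasicoherent := inferInstance
  have hGq : (glue j H T θ).IsQuasicoherent := glue_qc j H T θ hH hTq
  have hbij : ∀ O : X.Opens, O ≤ W → Function.Bijective ((glueSnd j H T θ).app O) := by
    intro O hO
    apply glueSnd_bijective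
    apply hθW
    exact fun y hy => hO hy
  refine ⟨glue j H T θ, glueSnd j H T θ, hGq, hbij, ?_⟩
  intro x hx
  rcases hx with hx | hx
  · exact fpAt_of_bijective (glueSnd j H T θ) W hbij hx (hfp x hx)
  · obtain ⟨e⟩ := nonempty_glue_restrict_iso j H T θ
    haveI hPm : Module.FinitePresentation Γ(X, V) Pm := hP
    let ε : Pm ≅ moduleSpecΓFunctor.obj ((glue j H T θ).restrict j) :=
      tilde.isoTop Pm ≪≫ (moduleSpecΓFunctor.mapIso e).symm
    have h1 : Module.FinitePresentation Γ(X, V)
        (moduleSpecΓFunctor.obj ((glue j H T θ).restrict j)) :=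
      Module.FinitePresentation.of_equiv ε.toLinearEquiv
    haveI h1' : Module.FinitePresentation Γ(X, V) Γ((glue j H T θ).restrict hV.fromSpec, ⊤) := h1
    have h2 : Module.FinitePresentation Γ(X, V) Γ(glue j H T θ, V) :=
      Module.FinitePresentation.of_equiv (QC.affineΓEquiv (glue j H T θ) hV)
    exact fpAt_of_sections _ hV h2 hx

/-- **modification to a finitely presented module**, keeping the module over `U`. -/
theorem exists_fp_modification [CompactSpace X] [QuasiSeparatedSpace X] (H₀ : X.Modules)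
    [H₀.IsQuasicoherent] (U : X.Opens) (hU : IsCompact (U : Set X))
    (hfp : ∀ x ∈ U, FPAt H₀ x) :
    ∃ (H : X.Modules) (p : H ⟶ H₀), H.IsQuasicoherent ∧
      (∀ O : X.Opens, O ≤ U → Function.Bijective (p.app O)) ∧ H.IsFinitePresentation := by
  classical
  obtain ⟨s, hs, e⟩ := isCompact_and_isOpen_iff_finite_and_eq_biUnion_affineOpens.mp
    ⟨(isCompact_univ : IsCompact (Set.univ : Set X)), isOpen_univ⟩
  have key : ∀ S : Finset X.affineOpens, ∃ (W : X.Opens) (H : X.Modules) (p : H ⟶ H₀),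
      IsCompact (W : Set X) ∧ U ≤ W ∧ (∀ V ∈ S, V.1 ≤ W) ∧ H.IsQuasicoherent ∧
      (∀ O : X.Opens, O ≤ U → Function.Bijective (p.app O)) ∧ ∀ x ∈ W, FPAt H x := by
    intro S
    induction S using Finset.induction_on with
    | empty =>
      exact ⟨U, H₀, 𝟙 H₀, hU, le_rfl, by simp, inferInstance,
        fun O _ => QC.app_bijective_of_isIso (𝟙 H₀) O, hfp⟩
    | insert V S hVS ih =>
      obtain ⟨W, H, p, hW, hUW, hSW, hHq, hbij, hfpH⟩ := ih
      haveI := hHq
      obtain ⟨H', p', hH'q, hbij', hfp'⟩ := exists_affine_step H W hW V.2 hfpH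
      refine ⟨W ⊔ V.1, H', p' ≫ p, ?_, hUW.trans le_sup_left, ?_, hH'q, ?_, hfp'⟩
      · rw [Opens.coe_sup]; exact hW.union V.2.isCompact
      · intro V' hV'
        rcases Finset.mem_insert.mp hV' with rfl | h
        · exact le_sup_right
        · exact (hSW V' h).trans le_sup_left
      · intro O hO
        exact bijective_comp_app _ _ _ (hbij' O (hO.trans hUW)) (hbij O hO)
  obtain ⟨W, H, p, -, -, hSW, hHq, hbij, hfpH⟩ := key hs.toFinset
  refine ⟨H, p, hHq, hbij, isFinitePresentation_of_fpAt H fun x => hfpH x ?_⟩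
  have hx : x ∈ ⋃ i ∈ s, ((i : X.Opens) : Set X) := e ▸ Set.mem_univ x
  obtain ⟨V, hV, hxV⟩ := Set.mem_iUnion₂.mp hx
  exact hSW V (hs.mem_toFinset.mpr hV) hxV

/-- **extension with a map**: a quasi-coherent module on a quasi-compact open with a map to `F|_U`
extends to a quasi-coherent module on `X` with a map to `F`. -/
theorem exists_extension_with_map (j : Y ⟶ X) [IsOpenImmersion j] [QuasiCompact j]
    (F : X.Modules) [F.IsQuasicoherent] (G : Y.Modules) (hG : G.IsQuasicoherent)
    (φ : G ⟶ F.restrict j) :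
    ∃ (H : X.Modules) (ψ : H ⟶ F) (e : H.restrict j ≅ G), H.IsQuasicoherent ∧
      e.hom ≫ φ = (Scheme.Modules.restrictFunctor j).map ψ := by
  haveI := hG
  let E : X.Modules := (Scheme.Modules.pushforward j).obj G ⊞ F
  haveI hE : E.IsQuasicoherent := SC.qc_biprod _ _ (QC.qc_pushforward j G) inferInstance
  let c : (Scheme.Modules.restrictFunctor j).obj ((Scheme.Modules.pushforward j).obj G) ⟶ G :=
    (Scheme.Modules.restrictAdjunction j).counit.app G
  haveI : IsIso c := inferInstanceAs (IsIso ((Scheme.Modules.restrictAdjunction j).counit.app G))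
  let i : G ⟶ (Scheme.Modules.restrictFunctor j).obj E :=
    inv c ≫ (Scheme.Modules.restrictFunctor j).map biprod.inl +
      φ ≫ (Scheme.Modules.restrictFunctor j).map biprod.inr
  have hi1 : i ≫ (Scheme.Modules.restrictFunctor j).map biprod.fst = inv c := by
    show (inv c ≫ (Scheme.Modules.restrictFunctor j).map biprod.inl +
      φ ≫ (Scheme.Modules.restrictFunctor j).map biprod.inr) ≫
        (Scheme.Modules.restrictFunctor j).map biprod.fst = inv c
    rw [Preadditive.add_comp, Category.assoc, Category.assoc, ← CategoryTheory.Functor.map_comp,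
      ← CategoryTheory.Functor.map_comp, biprod.inl_fst, biprod.inr_fst, CategoryTheory.Functor.map_id, CategoryTheory.Functor.map_zero,
      Category.comp_id, comp_zero, add_zero]
  have hi2 : i ≫ (Scheme.Modules.restrictFunctor j).map biprod.snd = φ := by
    show (inv c ≫ (Scheme.Modules.restrictFunctor j).map biprod.inl +
      φ ≫ (Scheme.Modules.restrictFunctor j).map biprod.inr) ≫
        (Scheme.Modules.restrictFunctor j).map biprod.snd = φ
    rw [Preadditive.add_comp, Category.assoc, Category.assoc, ← CategoryTheory.Functor.map_comp,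
      ← CategoryTheory.Functor.map_comp, biprod.inl_snd, biprod.inr_snd, CategoryTheory.Functor.map_id, CategoryTheory.Functor.map_zero,
      Category.comp_id, comp_zero, zero_add]
  haveI : Mono i := mono_of_mono_fac hi1
  obtain ⟨I, ι, e, hι, hI, he⟩ := QC.exists_qc_extension j E G hG i
  refine ⟨I, ι ≫ biprod.snd, e, hI, ?_⟩
  calc e.hom ≫ φ = e.hom ≫ (i ≫ (Scheme.Modules.restrictFunctor j).map biprod.snd) := by rw [hi2]
    _ = (e.hom ≫ i) ≫ (Scheme.Modules.restrictFunctor j).map biprod.snd :=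
        (Category.assoc _ _ _).symm
    _ = (Scheme.Modules.restrictFunctor j).map ι ≫
          (Scheme.Modules.restrictFunctor j).map biprod.snd := by rw [he]
    _ = (Scheme.Modules.restrictFunctor j).map (ι ≫ biprod.snd) :=
        ((Scheme.Modules.restrictFunctor j).map_comp _ _).symm

/-- **Extension of finitely presented modules** (Stacks 01PI). -/
theorem exists_fp_extension [CompactSpace X] [QuasiSeparatedSpace X] (F : X.Modules)
    [F.IsQuasicoherent] (U : X.Opens) (hU : IsCompact (U : Set X))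
    (G : (U : Scheme.{u}).Modules) (hG : G.IsFinitePresentation) (φ : G ⟶ F.restrict U.ι) :
    ∃ (G' : X.Modules) (φ' : G' ⟶ F) (e : G'.restrict U.ι ≅ G), G'.IsFinitePresentation ∧
      e.hom ≫ φ = (Scheme.Modules.restrictFunctor U.ι).map φ' := by
  haveI hGq : G.IsQuasicoherent := inferInstance
  haveI : CompactSpace ↥(U : Scheme.{u}) := isCompact_iff_compactSpace.mp hU
  obtain ⟨H₀, ψ₀, e₀, hH₀, he₀⟩ := exists_extension_with_map U.ι F G hGq φ
  haveI := hH₀
  have hfp0 : (H₀.restrict U.ι).IsFinitePresentation :=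
    QC.isFinitePresentation_of_iso e₀.symm hG
  obtain ⟨H, p, hHq, hbij, hHfp⟩ := exists_fp_modification H₀ U hU
    (fun x hx => fpAt_of_restrict_isFinitePresentation H₀ U hfp0 hx)
  haveI : IsIso ((Scheme.Modules.restrictFunctor U.ι).map p) :=
    (QC.isIso_restrict_iff p U).mpr hbij
  refine ⟨H, p ≫ ψ₀, asIso ((Scheme.Modules.restrictFunctor U.ι).map p) ≪≫ e₀, hHfp, ?_⟩
  rw [Iso.trans_hom, asIso_hom, Category.assoc, he₀, ← CategoryTheory.Functor.map_comp]

end Groth.Agent.LD.FPExt
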